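import Cfsg.Agent.Schur.PrimeCert

/-!
Certificate data for the prime 2 in the triple cover.
-/

set_option autoImplicit false
set_option maxRecDepth 20000

namespace Cfsg.Lib.McLModel.Mult.P2

open Cfsg.Lib.Schur.Prime (Cert)

/-- The certificate. -/
def cert : Cert where
  p := 2
  n := 7
  tails := [
    [[4, 6]],
    [[0, 1, 2, 3, 4], [2, 3, 6]],
    [[0, 2, 4, 6], [1, 2, 4], [6]],
    [[0, 3, 4, 5, 6], [1, 3, 4, 6], [2, 3, 5], [5, 6]],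
    [[0, 4], [1, 4, 5, 6], [2, 4, 6], [3, 4], [6]],
    [[0, 5, 6], [1, 5, 6], [2, 5], [3, 5], [4, 5], []],
    [[0, 6], [1, 6], [2, 6], [3, 6], [4, 6], [5, 6], []]]
  overlaps := [([0, 0, 0], 1), ([1, 1, 1], 1), ([2, 2, 2], 1), ([3, 3, 3], 1), ([4, 4, 4], 1), ([1, 0, 0], 1), ([1, 1, 0], 1), ([2, 0, 0], 1), ([2, 2, 0], 1), ([2, 1, 1], 1), ([2, 2, 1], 1), ([2, 1, 0], 1), ([3, 0, 0], 1), ([3, 3, 0], 1), ([3, 1, 1], 1), ([3, 3, 1], 1), ([3, 2, 2], 1), ([4, 4, 1], 1)]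
  fuse := [
    ([[0, 2], [1], [2, 3], [4], [5], [6]],
      [[4, 5], [1, 2, 3], [2, 3], [0, 3, 5], [2, 3, 5, 6], [6]],
      [([2, 0], [0, 1, 1]), ([2, 1], [0, 0, 1, 1, 1]), ([3, 0], [0, 0, 0, 3])]),
    ([[0, 1, 2], [2, 3], [5], [6]],
      [[2, 3, 5], [2, 3, 5, 6], [5], [0, 1, 3, 5]],
      [([0, 0], [])]),
    ([[0, 1, 4], [2, 3, 4], [5], [6]],
      [[0, 1, 4], [5], [2, 3, 4], [0, 1, 4, 6]],
      [([1, 0], [0, 1]), ([3, 3], [])]),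
    ([[0, 1], [2], [3], [4], [5], [6]],
      [[0, 1], [3, 5], [2, 5], [0, 1, 2, 3, 4, 5, 6], [5], [5, 6]],
      [([3, 1], [1, 1, 1, 3])])]
  delta := [
    [],
    [],
    [],
    [(7, 1), (15, 1)],
    [(15, 1)],
    [(0, 1), (21, 1)],
    [(0, 1), (15, 1)]]
  sels := [
    [[]],
    [[], [(3, 1), (4, 1), (6, 1), (7, 1), (13, 1), (17, 1), (18, 1), (19, 1), (20, 1), (23, 1)]],
    [[(0, 1), (1, 1), (2, 1), (4, 1), (5, 1), (6, 1), (10, 1), (11, 1), (12, 1), (13, 1), (14, 1), (20, 1), (21, 1), (22, 1), (23, 1), (24, 1)], [], [(1, 1), (2, 1), (3, 1), (6, 1), (7, 1), (9, 1), (10, 1), (13, 1), (14, 1), (16, 1), (18, 1), (19, 1), (22, 1), (24, 1)]],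
    [[], [(0, 1), (1, 1), (4, 1), (6, 1), (7, 1), (9, 1), (11, 1), (12, 1), (13, 1), (15, 1), (20, 1), (21, 1), (22, 1), (23, 1)], [(1, 1), (5, 1), (6, 1), (7, 1), (8, 1), (9, 1), (10, 1), (13, 1), (15, 1), (16, 1), (18, 1), (19, 1), (21, 1), (22, 1), (23, 1), (24, 1)], [(3, 1), (4, 1), (9, 1), (10, 1), (12, 1), (17, 1), (18, 1), (19, 1), (20, 1), (21, 1), (23, 1)]],
    [[(7, 1), (8, 1)], [(0, 1), (1, 1), (4, 1), (6, 1), (7, 1), (8, 1), (9, 1), (11, 1), (13, 1), (15, 1), (17, 1), (22, 1), (24, 1)], [(0, 1), (3, 1), (5, 1), (9, 1), (10, 1), (12, 1), (13, 1), (14, 1), (17, 1), (18, 1), (19, 1), (21, 1), (23, 1)], [(3, 1), (5, 1), (6, 1), (7, 1), (11, 1), (14, 1), (15, 1), (17, 1), (18, 1), (19, 1), (20, 1), (22, 1)], [(2, 1), (3, 1), (5, 1), (7, 1), (9, 1), (10, 1), (12, 1), (13, 1), (14, 1), (17, 1),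 (18, 1), (19, 1), (21, 1), (23, 1)]],
    [[(0, 1), (1, 1), (2, 1), (3, 1), (4, 1), (5, 1), (7, 1), (10, 1), (12, 1), (15, 1), (17, 1), (20, 1), (21, 1), (22, 1), (23, 1)], [(0, 1), (3, 1), (6, 1), (8, 1), (10, 1), (12, 1), (13, 1), (16, 1), (20, 1), (21, 1), (22, 1), (23, 1)], [(0, 1), (8, 1), (11, 1), (14, 1)], [(0, 1), (1, 1), (2, 1), (4, 1), (5, 1), (6, 1), (9, 1), (10, 1), (11, 1), (12, 1), (13, 1)], [(2, 1), (3, 1), (9, 1), (14, 1), (17, 1)], [(1, 1), (2, 1), (3, 1), (4, 1), (5, 1), (6, 1), (8, 1), (9, 1), (10, 1), (12, 1), (13, 1), (14, 1), (16, 1)]],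
    [[(0, 1), (7, 1), (8, 1)], [(0, 1), (2, 1), (7, 1), (9, 1), (11, 1), (12, 1), (13, 1), (16, 1)], [(2, 1)], [(0, 1), (1, 1), (2, 1), (3, 1), (4, 1), (5, 1), (6, 1), (9, 1), (10, 1), (11, 1), (12, 1), (13, 1)], [(4, 1)], [(0, 1), (1, 1), (2, 1), (4, 1), (5, 1), (6, 1), (7, 1), (8, 1), (12, 1), (13, 1), (16, 1)], [(4, 1), (9, 1), (10, 1), (11, 1), (12, 1), (13, 1), (16, 1)]]]

/-- Words of the generators. -/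
def pcw : List (List ℕ) := [[0, 3, 0, 2, 0, 3, 2, 0, 1, 0, 1, 0, 3, 1, 2, 3, 0, 2, 1, 3, 1, 3, 2, 0, 3, 1, 2, 0, 3, 1, 2, 0, 3, 1, 2, 0, 1, 3, 1], [3, 1, 0, 2, 3, 0, 2, 0, 2, 3, 0, 2, 1, 0, 3, 2, 0, 2, 1, 3, 2, 0, 3, 1, 2, 0, 3, 1, 2, 0, 3, 1, 2, 0, 1, 3, 1, 3, 2, 0, 3, 1, 2, 0, 3, 1, 2, 0, 3, 1, 2, 0, 1, 3, 1], [1, 3, 1, 0, 3, 2, 3, 2, 1, 0, 2, 0, 3, 0, 1, 0, 1, 0, 3], [0, 1, 2, 0, 1, 0, 2, 1, 3, 2, 3, 0, 2, 3, 0, 1, 2, 1, 0, 3, 2], [1, 3, 0, 2, 3, 1, 0, 3, 1, 2, 0, 1, 0, 3, 0, 1, 2, 1, 3, 2, 3, 0], [2, 0, 1, 0, 1, 3, 0, 3, 1, 0, 2, 1, 0, 1, 0, 3, 0, 3, 1, 2], [0, 2, 0, 2, 0, 1, 2, 0, 3, 0, 1, 2, 1, 0, 2, 0, 2]]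

/-- Words of the conjugating elements. -/
def fw : List (List ℕ) := [[0, 1, 0, 2, 1, 3, 1, 2, 0, 1, 2, 1, 0, 2, 3, 1, 2, 0, 1, 0, 3, 2, 0, 3, 1, 2, 0, 3, 1, 2, 0, 3, 1, 2, 0, 1, 3, 1], [2, 3, 0, 2, 1, 3, 2, 0, 2, 0, 3, 2, 3, 0, 2, 0, 3, 0, 2, 0, 3, 2, 0, 3, 1, 2, 0, 3, 1, 2, 0, 3, 1, 2, 0, 1, 3, 1], [1, 3, 1, 0, 1, 3, 0, 2, 3, 2, 0, 3, 1, 0, 1, 3, 1, 3, 2, 0, 3, 1, 2, 0, 3, 1, 2, 0, 3, 1, 2, 0, 1, 3, 1, 3, 2, 0, 3, 1, 2, 0, 3, 1, 2, 0, 3, 1, 2, 0, 1, 3, 1], [1, 0, 3, 2, 1, 3, 1, 0, 2, 0, 1, 3, 1, 2, 3, 0, 2, 1, 3, 2, 0, 3, 1, 2, 0, 3, 1, 2, 0, 3, 1, 2, 0, 1, 3, 1]]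

/-- Small stable sets of points. -/
def orbs : List (List ℕ) := [[26745, 38908, 74311, 39217, 113091, 26770, 112945, 26781, 73925, 39105, 26923, 113027, 39355, 73878, 74246, 113190], [93312, 55938, 19281, 10785], [9720, 118511, 69070, 125898, 44263, 133116, 13211, 54997], [93312, 19281], [93312], [9720], [0]]

theorem cert_ok : cert.ok = true := by decide +kernel

end Cfsg.Lib.McLModel.Mult.P2
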