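import Cfsg.Agent.Schur.PrimeCert

/-!
Certificate data for the prime 3 in the triple cover.
-/

set_option autoImplicit false
set_option maxRecDepth 20000

namespace Cfsg.Lib.McLModel.Mult.P3

open Cfsg.Lib.Schur.Prime (Cert)

/-- The certificate. -/
def cert : Cert where
  p := 3
  n := 7
  tails := [
    [[5, 6, 6]],
    [[0, 1, 2, 3, 4, 4, 5, 6, 6], [5]],
    [[0, 2, 4, 4, 5, 6, 6], [1, 2, 4, 4, 5, 5, 6, 6], []],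
    [[0, 3, 4, 5, 6], [1, 3, 4, 5, 5, 6, 6], [2, 3, 6], []],
    [[0, 4, 5, 5, 6], [1, 4, 6, 6], [2, 4, 5, 6, 6], [3, 4, 5, 5, 6], []],
    [[0, 5], [1, 5], [2, 5], [3, 5], [4, 5], []],
    [[0, 6], [1, 6], [2, 6], [3, 6], [4, 6], [5, 6], []]]
  overlaps := [([0, 0, 0, 0], 1), ([1, 1, 1, 1], 1), ([1, 0, 0, 0], 1), ([1, 1, 1, 0], 2), ([2, 0, 0, 0], 1), ([2, 2, 2, 0], 2), ([2, 1, 1, 1], 1), ([2, 2, 2, 1], 2), ([2, 1, 0], 1), ([3, 0, 0, 0], 1), ([3, 3, 3, 0], 2), ([3, 1, 1, 1], 1), ([3, 3, 3, 1], 2), ([3, 1, 0], 1), ([3, 2, 0], 1), ([3, 2, 1], 1), ([4, 1, 1, 1], 1)]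
  fuse := [
    ([[0, 2, 4], [2, 3], [4, 5], [6]],
      [[0, 1, 1, 2, 2, 3, 4, 5], [3, 3, 5, 5, 6, 6], [0, 1, 1, 2, 2, 3, 4], [6]],
      [([0, 0, 0], []), ([1, 0], [0, 1]), ([1, 1, 1], []), ([2, 0], [0, 2]), ([2, 1], [1, 2]), ([2, 2, 2], [])]),
    ([[0, 2, 4], [2, 3], [4, 5], [6]],
      [[2, 2, 3, 4, 6], [0, 0, 1, 3, 4, 5, 5], [2, 2, 3, 4, 5], [6]],
      [([1, 0], [0, 1])])]
  delta := [
    [],
    [],
    [],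
    [(7, 1), (14, 2)],
    [(0, 1), (14, 2)],
    [(8, 1)],
    [(0, 2), (8, 1)]]
  sels := [
    [[]],
    [[], []],
    [[], [(0, 2), (1, 1), (2, 1), (4, 1), (5, 1), (9, 1), (11, 2), (12, 1), (14, 2), (15, 1), (17, 2), (18, 1), (21, 1), (23, 1)], [(0, 2), (1, 1), (2, 2), (7, 2), (9, 1), (10, 1), (11, 2), (12, 2), (15, 1), (16, 2), (19, 2)]],
    [[(1, 1), (3, 1), (5, 2), (6, 2), (7, 2), (8, 1), (10, 2), (11, 1), (12, 1), (13, 2), (15, 1), (17, 1), (18, 1), (21, 2), (23, 1)], [(2, 1), (3, 2), (4, 1), (7, 1), (8, 1), (9, 2), (10, 2), (11, 2), (12, 1), (14, 2), (18, 1), (19, 1), (20, 1), (21, 1), (22, 2), (23, 2)], [(0, 2), (1, 2), (2, 1), (3, 2), (4, 1), (5, 1), (6, 1), (8, 2), (10, 2), (11, 1), (13, 1), (14, 1), (15, 2), (16, 2), (19, 1), (20, 1), (21, 2), (22, 2), (23, 2)], [(0, 1), (1, 1), (2, 1), (3, 2), (4, 2), (5,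 1), (7, 1), (8, 2), (9, 2), (10, 1), (12, 2), (13, 2), (15, 2), (19, 1)]],
    [[(0, 1), (1, 2), (3, 2), (4, 2), (5, 1), (8, 1), (9, 1), (11, 2), (13, 1), (14, 1), (16, 2), (17, 1), (19, 1), (20, 2), (22, 2)], [(0, 2), (1, 1), (3, 2), (4, 2), (7, 1), (8, 2), (9, 1), (10, 1), (11, 1), (12, 1), (13, 2), (14, 1), (15, 1), (16, 1), (19, 2), (21, 1), (22, 1), (23, 1)], [(0, 2), (2, 2), (5, 1), (6, 2), (9, 2), (10, 1), (11, 2), (12, 1), (14, 2), (15, 2), (17, 2), (19, 2), (20, 2), (22, 1)], [(0, 1), (2, 1), (4, 2), (5, 1), (7, 1), (11, 2), (14, 1), (16, 2), (17, 1), (19, 1), (20, 1), (22, 2)], [(1, 1), (2, 2), (3, 2), (5, 1), (6, 1), (7, 1), (8, 1), (9, 2), (11, 1), (13, 1), (14, 2)]],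
    [[(0, 2), (2, 2), (3, 2), (4, 2), (7, 2), (8, 2), (10, 2), (12, 1), (13, 2), (14, 1)], [(1, 1)], [(1, 1), (4, 2), (8, 2), (9, 1), (11, 2), (12, 1), (13, 2), (14, 2), (15, 2)], [(0, 2), (1, 1), (2, 1), (3, 1), (4, 2), (5, 2), (7, 1), (10, 2), (11, 1), (14, 2), (15, 1), (16, 2)], [(5, 2), (7, 1), (10, 1), (12, 2), (16, 1)], [(5, 1), (7, 2)]],
    [[(0, 1), (2, 2), (3, 2), (4, 2), (7, 2), (8, 2), (10, 2), (12, 1), (13, 2), (14, 1)], [(2, 2), (3, 2), (6, 2), (8, 2), (11, 2), (13, 2), (15, 1), (16, 1)], [(0, 2), (1, 1), (5, 2), (7, 2), (8, 2), (9, 1), (10, 1), (11, 2), (13, 2), (14, 2), (15, 2)], [(1, 1), (2, 1), (3, 1), (4, 1), (7, 1), (11, 1), (12, 1), (14, 2), (15, 1), (16, 2)], [(0, 1), (1, 1), (2, 2), (3, 2), (4, 2), (5, 2), (6, 1), (7, 1), (8, 1), (9, 2), (10, 2), (11, 1), (12, 1), (13, 1), (14, 2), (16, 1)], [(0, 1),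 (1, 1), (2, 2), (3, 2), (5, 2), (6, 1), (8, 1), (10, 1), (11, 1), (12, 1), (13, 1), (14, 2)], [(5, 2), (7, 1), (10, 1), (12, 2)]]]

/-- Words of the generators. -/
def pcw : List (List ℕ) := [[3, 1, 0, 1, 2, 3, 2, 0, 1, 3, 0, 1, 2, 1], [1, 3, 0, 2, 0, 1, 3, 0, 1, 2, 1, 3, 2, 0, 2, 3, 1, 0, 3, 0, 2, 1, 3, 2, 0, 3, 1, 2, 0, 3, 1, 2, 0, 3, 1, 2, 0, 1, 3, 1], [0, 2, 3, 1, 0, 3, 1, 0, 1, 0, 3, 1, 2, 0, 3, 0, 3, 2, 0], [2, 0, 1, 3, 0, 1, 0, 1, 0, 1, 2, 0, 1, 2, 3, 2, 3, 0, 1, 0, 3, 2, 0, 3, 1, 2, 0, 3, 1, 2, 0, 3, 1, 2, 0, 1, 3, 1, 3, 2, 0, 3, 1, 2, 0, 3, 1, 2, 0, 3, 1, 2, 0, 1, 3, 1], [0, 2, 0, 2, 3, 0, 2, 0, 2, 0, 3, 2, 0, 3, 0, 2, 3, 2, 3, 2, 0, 3, 1, 2, 0, 3, 1, 2, 0, 3, 1, 2, 0, 1, 3, 1], [0, 1, 0, 2, 3, 0, 2, 0, 1, 2, 0, 3, 0, 2, 3, 1, 0, 1, 0], [3, 2, 0, 3, 1, 2, 0, 3, 1, 2, 0, 3, 1, 2, 0, 1, 3, 1, 3, 2, 0, 3, 1, 2, 0,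 3, 1, 2, 0, 3, 1, 2, 0, 1, 3, 1]]

/-- Words of the conjugating elements. -/
def fw : List (List ℕ) := [[0, 1, 0, 3, 0, 2, 0, 3, 2, 3, 1, 0, 1, 0, 1, 3, 1, 2, 3, 0, 1, 0], [0, 3, 0, 3, 2, 0, 3, 0, 1, 2, 0, 3, 0, 1, 0, 3, 1, 2, 1, 3, 3, 2, 0, 3, 1, 2, 0, 3, 1, 2, 0, 3, 1, 2, 0, 1, 3, 1, 3, 2, 0, 3, 1, 2, 0, 3, 1, 2, 0, 3, 1, 2, 0, 1, 3, 1]]

/-- Small stable sets of points. -/
def orbs : List (List ℕ) := [[8748, 61167, 67357, 49359, 32492, 33884, 8750, 78842, 76798, 31928, 106056, 108985, 61169, 76797, 127610, 32490, 67358, 43183, 67356, 42041, 32491, 43182, 127608, 127609, 49361, 106058, 56664, 44253, 33883, 8749, 124354, 18888, 126178, 123712, 78841, 42040, 108986, 131110, 1742, 108984, 106563, 122029, 31927, 126177, 106565, 61168, 124353, 42039, 76799, 131109, 44254, 56665, 33882, 43184, 67915, 131111, 106057, 56666, 44255,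 31926, 49360, 126179, 106564, 122028, 18889, 78840, 58894, 67916, 18890, 17877, 1740, 123713, 123711, 67914, 122030, 17878, 1741, 17879, 58893, 124355, 58895], [8748, 67357, 49359, 32492, 33884, 8750, 127610, 32490, 67358, 43183, 67356, 32491, 43182, 127608, 127609, 49361, 56664, 44253, 33883, 8749, 44254, 56665, 33882, 43184, 56666, 44255, 49360], [2931, 3339, 3011, 3166, 2933, 3096, 2932, 2960, 3341, 3165, 3387, 3010, 3220, 3235, 3009, 3098, 3340, 3167, 2959, 3389, 3219, 3388, 3221, 3234, 3097, 2958, 3236], [8748, 32492, 33884, 8750, 32491, 33883, 8749, 32490, 33882], [0, 456, 2, 89, 458, 1, 88, 457, 87], [0, 2, 1], [0]]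

theorem cert_ok : cert.ok = true := by decide +kernel

end Cfsg.Lib.McLModel.Mult.P3
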