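import Cfsg.Agent.Schur.PrimeCert

/-!
Certificate data for the prime 5 in the triple cover.
-/

set_option autoImplicit false
set_option maxRecDepth 20000

namespace Cfsg.Lib.McLModel.Mult.P5

open Cfsg.Lib.Schur.Prime (Cert)

/-- The certificate. -/
def cert : Cert where
  p := 5
  n := 3
  tails := [
    [[]],
    [[0, 1, 2, 2, 2, 2], []],
    [[0, 2], [1, 2], []]]
  overlaps := [([1, 0, 0, 0, 0, 0], 1)]
  fuse := [
    ([[0], [1], [2]],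
      [[0, 1, 2, 2], [0, 0, 0, 1, 1, 2, 2, 2, 2], [2, 2, 2, 2]],
      [([0, 0, 0, 0, 0], []), ([1, 1, 1, 1, 1], []), ([2, 0], [0, 2]), ([2, 1], [1, 2])])]
  delta := [
    [],
    [],
    [(3, 4)]]
  sels := [
    [[(0, 1), (1, 2), (2, 3)]],
    [[], [(1, 4)]],
    [[(3, 1), (4, 3)], [(3, 4), (4, 4)], [(0, 4)]]]

/-- Words of the generators. -/
def pcw : List (List ℕ) := [[1, 2, 1, 0, 3, 2, 3, 0, 1, 2, 0, 3, 2, 3, 0, 2, 1, 3, 1, 2], [3, 1, 0, 1, 2, 3, 0, 2, 0, 1, 3, 1, 0, 1, 2, 0, 3, 1, 0, 1, 0, 3, 2, 0, 3, 1, 2, 0, 3, 1, 2, 0, 3, 1, 2, 0, 1, 3, 1], [1, 3, 1, 2, 0, 3, 2, 1, 3, 0, 1, 0, 1, 0, 2, 1, 3, 0, 3, 2, 0, 3, 1, 2, 0, 3, 1, 2, 0, 3, 1, 2, 0, 1, 3, 1, 3, 2, 0, 3, 1, 2, 0, 3, 1, 2, 0, 3, 1, 2, 0, 1, 3, 1]]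

/-- Words of the conjugating elements. -/
def fw : List (List ℕ) := [[2, 1, 0, 1, 2, 3, 2, 3, 0, 2, 0, 2, 3, 2, 0, 2, 3, 1]]

/-- Small stable sets of points. -/
def orbs : List (List ℕ) := [[0, 118736, 121827, 113718, 123848, 108915, 39834, 55507, 47130, 7084, 108693, 93349, 24258, 100449, 114041, 12935, 29544, 44287, 7719, 122108, 116150, 2879, 79658, 39269, 114908], [0, 121827, 108915, 7084, 114041], [0]]

theorem cert_ok : cert.ok = true := by decide +kernel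

end Cfsg.Lib.McLModel.Mult.P5
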