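import Cfsg.Agent.McLModel.Mult.Checks
import Cfsg.Agent.McLModel.Mult.P2
import Cfsg.Agent.McLModel.Mult.P3
import Cfsg.Agent.McLModel.Mult.P5
import Cfsg.Agent.Schur.ActPrime

/-!
The certificates evaluated on the coded points.
-/

set_option autoImplicit false
set_option maxRecDepth 20000
set_option Elab.async false

namespace Cfsg.Lib.McLModel.Mult

open Cfsg.Lib.Schur.PermPrime (wordsIn)
open Cfsg.Lib.Schur.ActPrime (ruleRow fusOK orbOK)

theorem sylow2_words : (wordsIn 4 P2.pcw && wordsIn 4 P2.fw) = true ∧
    ((List.range 7).all fun j => ruleRow step pts P2.cert P2.pcw j) = true ∧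
    fusOK step pts P2.cert P2.pcw P2.fw = true ∧
    ((List.range 7).all fun k => orbOK 133650 step 7 P2.pcw k (P2.orbs.getD k [])) = true := by decide +kernel

theorem sylow3_words : (wordsIn 4 P3.pcw && wordsIn 4 P3.fw) = true ∧
    ((List.range 7).all fun j => ruleRow step pts P3.cert P3.pcw j) = true ∧
    fusOK step pts P3.cert P3.pcw P3.fw = true ∧
    ((List.range 7).all fun k => orbOK 133650 step 7 P3.pcw k (P3.orbs.getD k [])) = true := by decide +kernel

theorem sylow5_words : (wordsIn 4 P5.pcw && wordsIn 4 P5.fw) = true ∧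
    ((List.range 3).all fun j => ruleRow step pts P5.cert P5.pcw j) = true ∧
    fusOK step pts P5.cert P5.pcw P5.fw = true ∧
    ((List.range 3).all fun k => orbOK 133650 step 3 P5.pcw k (P5.orbs.getD k [])) = true := by decide +kernel

end Cfsg.Lib.McLModel.Mult
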