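import Cfsg.Agent.Schur.MonoCover
import Cfsg.Agent.Schur.ActPrime
import Cfsg.Agent.McLModel.Data
import Cfsg.Agent.McLModel.InvChecks
import Cfsg.Agent.McLModel.Mult.Data

/-!
Kernel checks for the triple cover of the McLaughlin group.
-/

set_option autoImplicit false
set_option maxRecDepth 20000
set_option Elab.async false

namespace Cfsg.Lib.McLModel.Mult

open Cfsg.Lib.PermCert
open Cfsg.Lib.Schur.PermPrime (gensOK wordsIn ev)
open Cfsg.Lib.Schur.Mono (rot compatOK stableOK treeOK)

/-- The identity tables on 275 points. -/
def idBig : PP := (0x11201110110010f010e010d010c010b010a010901080107010601050104010301020101010000ff00fe00fd00fc00fb00fa00f900f800f700f600f500f400f300f200f100f000ef00ee00ed00ec00eb00ea00e900e800e700e600e500e400e300e200e100e000df00de00dd00dc00db00da00d900d800d700d600d500d400d300d200d100d000cf00ce00cd00cc00cb00ca00c900c800c700c600c500c400c300c200c100c000bf00be00bd00bc00bb00ba00b900b800b700b600b500b400b300b200b100b000af00ae00ad00ac00ab00aa00a900a800a700a600a500a400a300a200a100a0009f009e009d009c009b009a0099009800970096009500940093009200910090008f008e008d008c008b008a0089008800870086008500840083008200810080007f007e007d007c007b007a0079007800770076007500740073007200710070006f006e006d006c006b006a0069006800670066006500640063006200610060005f005e005d005c005b005a0059005800570056005500540053005200510050004f004e004d004c004b004a0049004800470046004500440043004200410040003f003e003d003c003b003a0039003800370036003500340033003200310030002f002e002d002c002b002a0029002800270026002500240023002200210020001f001e001d001c001b001a0019001800170016001500140013001200110010000f000e000d000c000b000a0009000800070006000500040003000200010000,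 0x11201110110010f010e010d010c010b010a010901080107010601050104010301020101010000ff00fe00fd00fc00fb00fa00f900f800f700f600f500f400f300f200f100f000ef00ee00ed00ec00eb00ea00e900e800e700e600e500e400e300e200e100e000df00de00dd00dc00db00da00d900d800d700d600d500d400d300d200d100d000cf00ce00cd00cc00cb00ca00c900c800c700c600c500c400c300c200c100c000bf00be00bd00bc00bb00ba00b900b800b700b600b500b400b300b200b100b000af00ae00ad00ac00ab00aa00a900a800a700a600a500a400a300a200a100a0009f009e009d009c009b009a0099009800970096009500940093009200910090008f008e008d008c008b008a0089008800870086008500840083008200810080007f007e007d007c007b007a0079007800770076007500740073007200710070006f006e006d006c006b006a0069006800670066006500640063006200610060005f005e005d005c005b005a0059005800570056005500540053005200510050004f004e004d004c004b004a0049004800470046004500440043004200410040003f003e003d003c003b003a0039003800370036003500340033003200310030002f002e002d002c002b002a0029002800270026002500240023002200210020001f001e001d001c001b001a0019001800170016001500140013001200110010000f000e000d000c000b000a0009000800070006000500040003000200010000)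

/-- The identity tables on 162 points. -/
def idNb : PP := (0xa100a0009f009e009d009c009b009a0099009800970096009500940093009200910090008f008e008d008c008b008a0089008800870086008500840083008200810080007f007e007d007c007b007a0079007800770076007500740073007200710070006f006e006d006c006b006a0069006800670066006500640063006200610060005f005e005d005c005b005a0059005800570056005500540053005200510050004f004e004d004c004b004a0049004800470046004500440043004200410040003f003e003d003c003b003a0039003800370036003500340033003200310030002f002e002d002c002b002a0029002800270026002500240023002200210020001f001e001d001c001b001a0019001800170016001500140013001200110010000f000e000d000c000b000a0009000800070006000500040003000200010000, 0xa100a0009f009e009d009c009b009a0099009800970096009500940093009200910090008f008e008d008c008b008a0089008800870086008500840083008200810080007f007e007d007c007b007a0079007800770076007500740073007200710070006f006e006d006c006b006a0069006800670066006500640063006200610060005f005e005d005c005b005a0059005800570056005500540053005200510050004f004e004d004c004b004a0049004800470046004500440043004200410040003f003e003d003c003b003a0039003800370036003500340033003200310030002f002e002d002c002b002a0029002800270026002500240023002200210020001f001e001d001c001b001a0019001800170016001500140013001200110010000f000e000d000c000b000a0009000800070006000500040003000200010000)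

/-- The generators of the cover of the stabiliser. -/
def covTabs : List PP := sixFib ++ [rotTab]

/-- Their images on the neighbours. -/
def covNb : List PP := sixNb ++ [idNb]

/-- The three generators and their inverses on the vectors. -/
def bigSix : List PP := sixBig ++ sixBig.map pinv

/-- The three generators and their inverses on the fibres. -/
def fibSix : List PP := sixFib ++ sixFib.map pinv

/-- The alphabet on the vectors. -/
def bigAlph : List PP := alphBig ++ alphBig.map pinv ++ [idBig]

/-- The alphabet on the fibres. -/
def fibAlph : List PP := alphFib ++ alphFib.map pinv ++ [rotTab]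

/-- A neighbour of the first vector. -/
def nbr (j : ℕ) : ℕ := ap nbTab j

/-- A row of the relation. -/
def row (i : ℕ) : ℕ := (rowTabs.getD (i / 20) []).getD (i % 20) 0

/-- A transversal word. -/
def trans (a : ℕ) : List ℕ := transWords.getD a []

/-- The image of a vector under a generator. -/
def gIm (g a : ℕ) : ℕ := ap (data.low.getD g (0, 0)).1 a

/-- A component of a generator as a word in the alphabet. -/
def comp (g a : ℕ) : List ℕ :=
  ((([comp0, comp1, comp2, comp3].getD g []).getD (a / 20) []).getD (a % 20) [])

/-- A generator on the coded points. -/
def step (g x : ℕ) : ℕ := 486 * gIm g (x / 486) + ev fibAlph (comp g (x / 486)) (x % 486)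

/-- The partner of a pair, coded. -/
def link (a j : ℕ) : ℕ :=
  (((linkTabs.getD (a / 20) []).getD (a % 20) 0) >>> (20 * j)) % 1048576

/-- The partner of a coded point. -/
def linkPt (x : ℕ) : ℕ :=
  let e := link (x / 486) (x % 486 / 3)
  486 * (e % 512) + 3 * (e / 512 % 256) + (e / 131072 + x % 486 % 3) % 3

theorem valid_ok : gensOK 275 data.low = true ∧ data.low.length = 4 ∧ gensOK 275 sixBig = true ∧ gensOK 275 bigAlph = true ∧
    gensOK 162 sixNb = true ∧ gensOK 486 fibAlph = true ∧ gensOK 486 fibSix = true ∧ gensOK 275 bigSix = true ∧
    fibAlph.length = 65 ∧ bigAlph.length = 65 ∧ covTabs.length = 4 := by decide +kernel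

theorem rot_ok : ((List.range 486).all fun x => ap rotTab.1 x == rot 3 x) = true ∧
    ((List.range 275).all fun x => ap idBig.1 x == x) = true ∧ ((List.range 162).all fun x => ap idNb.1 x == x) = true := by
  decide +kernel

theorem nbr_ok : ((List.range 162).all fun j => Nat.blt (nbr j) 275 &&
    (List.range j).all fun i => !(nbr i == nbr j)) = true := by decide +kernel

/-- A generator of the stabiliser as a word, and its action on the neighbours. -/
def hOK (k : ℕ) : Bool :=
  let w := hWords.getD k []
  let g := (sixBig.getD k (0, 0)).1
  let n := (sixNb.getD k (0, 0)).1
  (w.all fun l => Nat.blt l 4) && ((List.range 275).all fun x => ev data.low w x == ap g x) &&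
    (List.range 162).all fun j => ap g (nbr j) == nbr (ap n j)

theorem h_ok : (List.range 3).all hOK = true := by decide +kernel

theorem compat_ok : compatOK 162 3 covNb covTabs = true := by decide +kernel

theorem stable0 : stableOK 3 162 row (covTabs.getD 0 (0, 0)).1 (List.range 162) = true := by decide +kernel

theorem stable1 : stableOK 3 162 row (covTabs.getD 1 (0, 0)).1 (List.range 162) = true := by decide +kernel

theorem stable2 : stableOK 3 162 row (covTabs.getD 2 (0, 0)).1 (List.range 162) = true := by decide +kernel

theorem stable3 : stableOK 3 162 row (covTabs.getD 3 (0, 0)).1 (List.range 162) = true := by decide +kernel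

theorem nbTree_ok : treeOK 3 162 row nbTree [0] = true := by decide +kernel

/-- A letter of the alphabet as a word in the three generators. -/
def alphOK (k : ℕ) : Bool :=
  let w := alphWords.getD k []
  let b := (alphBig.getD k (0, 0)).1
  let f := (alphFib.getD k (0, 0)).1
  (w.all fun l => Nat.blt l 6) && ((List.range 275).all fun x => ev bigSix w x == ap b x) &&
    (List.range 486).all fun x => ev fibSix w x == ap f x

theorem alph_ok : (List.range 32).all alphOK = true := by decide +kernel

/-- A component lies over the Schreier element of the transversal. -/
def compOK (g : ℕ) : Bool :=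
  (List.range 275).all fun a =>
    let w := comp g a
    let v := (trans (gIm g a)).reverse ++ g :: trans a
    (w.all fun l => Nat.blt l 65) && (v.all fun l => Nat.blt l 4) &&
      [5, 62, 25, 0, 1].all fun b => ev bigAlph w b == ev data.low v b

theorem comp_ok : (List.range 4).all compOK = true := by decide +kernel

theorem link_range : ((List.range 275).all fun a => (List.range 162).all fun j =>
    let e := link a j
    Nat.blt (e % 512) 275 && Nat.blt (e / 512 % 256) 162) = true := by decide +kernel

/-- A generator respects the partners at some vectors. -/
def linkOK (g : ℕ) (as : List ℕ) : Bool :=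
  as.all fun a => (List.range 162).all fun j =>
    let p := 486 * a + 3 * j
    step g (linkPt p) == linkPt (step g p)

theorem link0_0 : linkOK 0 (List.range' 0 55) = true := by decide +kernel

theorem link0_1 : linkOK 0 (List.range' 55 55) = true := by decide +kernel

theorem link0_2 : linkOK 0 (List.range' 110 55) = true := by decide +kernel

theorem link0_3 : linkOK 0 (List.range' 165 55) = true := by decide +kernel

theorem link0_4 : linkOK 0 (List.range' 220 55) = true := by decide +kernel

theorem link1_0 : linkOK 1 (List.range' 0 55) = true := by decide +kernel

theorem link1_1 : linkOK 1 (List.range' 55 55) = true := by decide +kernel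

theorem link1_2 : linkOK 1 (List.range' 110 55) = true := by decide +kernel

theorem link1_3 : linkOK 1 (List.range' 165 55) = true := by decide +kernel

theorem link1_4 : linkOK 1 (List.range' 220 55) = true := by decide +kernel

theorem link2_0 : linkOK 2 (List.range' 0 55) = true := by decide +kernel

theorem link2_1 : linkOK 2 (List.range' 55 55) = true := by decide +kernel

theorem link2_2 : linkOK 2 (List.range' 110 55) = true := by decide +kernel

theorem link2_3 : linkOK 2 (List.range' 165 55) = true := by decide +kernel

theorem link2_4 : linkOK 2 (List.range' 220 55) = true := by decide +kernel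

theorem link3_0 : linkOK 3 (List.range' 0 55) = true := by decide +kernel

theorem link3_1 : linkOK 3 (List.range' 55 55) = true := by decide +kernel

theorem link3_2 : linkOK 3 (List.range' 110 55) = true := by decide +kernel

theorem link3_3 : linkOK 3 (List.range' 165 55) = true := by decide +kernel

theorem link3_4 : linkOK 3 (List.range' 220 55) = true := by decide +kernel

theorem link_ok {g : ℕ} (hg : g < 4) {a : ℕ} (ha : a < 275) {j : ℕ} (hj : j < 162) :
    step g (linkPt (486 * a + 3 * j)) = linkPt (step g (486 * a + 3 * j)) := by
  have key : ∀ {c : ℕ}, linkOK g (List.range' (55 * c) 55) = true → 55 * c ≤ a → a < 55 * c + 55 →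
      step g (linkPt (486 * a + 3 * j)) = linkPt (step g (486 * a + 3 * j)) := fun h h1 h2 =>
    beq_iff_eq.mp (List.all_eq_true.mp (List.all_eq_true.mp h a (List.mem_range'_1.mpr ⟨h1, h2⟩)) j
      (List.mem_range.mpr hj))
  interval_cases g
  · by_cases h1 : a < 55
    · exact key (c := 0) link0_0 (by omega) (by omega)
    by_cases h2 : a < 110
    · exact key (c := 1) link0_1 (by omega) (by omega)
    by_cases h3 : a < 165
    · exact key (c := 2) link0_2 (by omega) (by omega)
    by_cases h4 : a < 220
    · exact key (c := 3) link0_3 (by omega) (by omega)
    exact key (c := 4) link0_4 (by omega) (by omega)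
  · by_cases h1 : a < 55
    · exact key (c := 0) link1_0 (by omega) (by omega)
    by_cases h2 : a < 110
    · exact key (c := 1) link1_1 (by omega) (by omega)
    by_cases h3 : a < 165
    · exact key (c := 2) link1_2 (by omega) (by omega)
    by_cases h4 : a < 220
    · exact key (c := 3) link1_3 (by omega) (by omega)
    exact key (c := 4) link1_4 (by omega) (by omega)
  · by_cases h1 : a < 55
    · exact key (c := 0) link2_0 (by omega) (by omega)
    by_cases h2 : a < 110
    · exact key (c := 1) link2_1 (by omega) (by omega)
    by_cases h3 : a < 165
    · exact key (c := 2) link2_2 (by omega) (by omega)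
    by_cases h4 : a < 220
    · exact key (c := 3) link2_3 (by omega) (by omega)
    exact key (c := 4) link2_4 (by omega) (by omega)
  · by_cases h1 : a < 55
    · exact key (c := 0) link3_0 (by omega) (by omega)
    by_cases h2 : a < 110
    · exact key (c := 1) link3_1 (by omega) (by omega)
    by_cases h3 : a < 165
    · exact key (c := 2) link3_2 (by omega) (by omega)
    by_cases h4 : a < 220
    · exact key (c := 3) link3_3 (by omega) (by omega)
    exact key (c := 4) link3_4 (by omega) (by omega)

/-- A spanning tree of the partners. -/
def bigTreeOK : List (ℕ × ℕ × ℕ) → List ℕ → Bool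
  | [], seen => (List.range 275).all fun a => seen.contains a
  | (c, p, j) :: T, seen =>
    Nat.blt p 275 && Nat.blt j 162 && seen.contains p && (link p j % 512 == c) && bigTreeOK T (c :: seen)

theorem bigTree_ok : bigTreeOK bigTree [0] = true := by decide +kernel

/-- The coded base points. -/
def pts : List ℕ := [2430, 30132, 12150, 0, 486]

theorem com_ok : ((comA ++ comB ++ comA' ++ comB').all fun k => Nat.blt k 4) = true ∧
    (pts.all fun x => Cfsg.Lib.Schur.ActPrime.ev step (comA ++ comA') x == x && Cfsg.Lib.Schur.ActPrime.ev step (comB ++ comB') x == x &&
      (Cfsg.Lib.Schur.ActPrime.ev step (comA ++ comB ++ comA' ++ comB') x == 486 * (x / 486) + rot 3 (x % 486))) = true := by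
  decide +kernel

theorem gens_noncomm : ([5, 62, 25, 0, 1].any fun b => !(ev data.low [0, 1] b == ev data.low [1, 0] b)) = true := by
  decide +kernel

end Cfsg.Lib.McLModel.Mult
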