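import Cfsg.Agent.McLModel.Mult.Group
import Cfsg.Agent.McLModel.Mult.Certs
import Cfsg.Agent.Schur.UniversalCover
import Cfsg.Agent.Schur.SylowTransfer
import Cfsg.Agent.Schur.Criteria

/-!
The multiplier of the McLaughlin group has order three.
-/

set_option autoImplicit false
set_option maxRecDepth 20000
set_option linter.style.haveILetI false
set_option Elab.async false

namespace Cfsg.Lib.McLModel.Mult

open Cfsg Cfsg.Lib.CosetCert Cfsg.Lib.CosetCert.OutCert Cfsg.Lib.PermCert
open Cfsg.Lib.Schur.ActPrime (Acts elem_apply Based not_dvd_ker elem_append)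
open Cfsg.Lib.Schur.Mono (rot)
open scoped commutatorElement

theorem acts : Acts 133650 4 enc im step where
  inj := enc_inj
  surj := enc_surj
  step_eq := step_eq

theorem based_C : Based C.subtype enc pts := by
  intro a b h
  suffices hab : a⁻¹ * b = 1 from inv_mul_eq_one.mp hab
  refine based fun p hp => ?_
  show a.1⁻¹ (b.1 p) = p
  rw [show b.1 p = a.1 p from (h p hp).symm]
  exact Equiv.symm_apply_apply _ _

theorem elem_mem {w : List ℕ} (hw : w.all (fun k => Nat.blt k 4) = true) :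
    Cfsg.Lib.Schur.ActPrime.elem im w ∈ C := by
  refine Subgroup.list_prod_mem _ fun g hg => ?_
  obtain ⟨k, hk, rfl⟩ := List.mem_map.mp hg
  exact Subgroup.subset_closure ⟨k, by simpa [Nat.blt, Nat.ble_eq] using List.all_eq_true.mp hw k hk, rfl⟩

theorem simple_grp : IsSimpleGroup data.grp ∧ ¬ IsMulCommutative data.grp := by
  haveI : IsSimpleGroup mclGrp := mclGrp_isMcL.1
  haveI : Nontrivial phi.range := (MonoidHom.ofInjective phi_injective).symm.toEquiv.nontrivial
  have hs : IsSimpleGroup phi.range := IsSimpleGroup.isSimpleGroup_of_surjective (MonoidHom.ofInjective phi_injective).toMonoidHom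
    (MonoidHom.ofInjective phi_injective).surjective
  refine ⟨by rw [grp_eq.1]; exact hs, fun h => ?_⟩
  have hc : (⟨_, low_mem (show 0 < 4 by norm_num)⟩ : grp275) * ⟨_, low_mem (show 1 < 4 by norm_num)⟩ =
      ⟨_, low_mem (show 1 < 4 by norm_num)⟩ * ⟨_, low_mem (show 0 < 4 by norm_num)⟩ := h.is_comm.comm _ _
  have hc' := congrArg Subtype.val hc
  obtain ⟨b, hb, hne⟩ := List.any_eq_true.mp gens_noncomm
  have hb' : b < 275 := by
    simp only [List.mem_cons, List.not_mem_nil, or_false] at hb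
    omega
  have key : ∀ g g' : ℕ, g < 4 → g' < 4 →
      (perm 275 (data.low.getD g (0, 0)) * perm 275 (data.low.getD g' (0, 0))) ⟨b, hb'⟩ =
        Cfsg.Lib.Schur.PermPrime.elem 275 data.low [g, g'] ⟨b, hb'⟩ := fun g g' _ _ => by
    simp [Cfsg.Lib.Schur.PermPrime.elem, Cfsg.Lib.Schur.PermPrime.sel, wperm]
  have e1 := key 0 1 (by norm_num) (by norm_num)
  have e2 := key 1 0 (by norm_num) (by norm_num)
  rw [show perm 275 (data.low.getD 0 (0, 0)) * perm 275 (data.low.getD 1 (0, 0)) =
    perm 275 (data.low.getD 1 (0, 0)) * perm 275 (data.low.getD 0 (0, 0)) from hc', e2] at e1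
  have := congrArg Fin.val e1
  rw [low_apply (by decide), low_apply (by decide)] at this
  simp [this] at hne

theorem cover : ∃ π : C →* data.grp, Cfsg.IsStemExtension π ∧ Nat.card π.ker = 3 ∧
    Nat.card C = 2694384000 ∧ commutator C = ⊤ := by
  refine ⟨proj, ?_⟩
  obtain ⟨hw, hpts⟩ := com_ok
  simp only [List.all_append, Bool.and_eq_true] at hw
  obtain ⟨⟨⟨hA, hB⟩, hA'⟩, hB'⟩ := hw
  set a : C := ⟨_, elem_mem hA⟩
  set b : C := ⟨_, elem_mem hB⟩
  set a' : C := ⟨_, elem_mem hA'⟩
  set b' : C := ⟨_, elem_mem hB'⟩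
  simp only [List.all_eq_true, Bool.and_eq_true, beq_iff_eq] at hpts
  have happ : ∀ p q : List ℕ, p.all (fun k => Nat.blt k 4) = true → q.all (fun k => Nat.blt k 4) = true →
      (p ++ q).all (fun k => Nat.blt k 4) = true := fun p q h1 h2 => by rw [List.all_append, h1, h2]; rfl
  have ha : a' = a⁻¹ := by
    refine (inv_eq_of_mul_eq_one_right (based (x := a * a') fun p hp => enc_inj ?_)).symm
    show enc ((Cfsg.Lib.Schur.ActPrime.elem im comA * Cfsg.Lib.Schur.ActPrime.elem im comA') p) = _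
    rw [← elem_append, elem_apply acts (happ _ _ hA hA')]
    exact (hpts _ hp).1.1
  have hb : b' = b⁻¹ := by
    refine (inv_eq_of_mul_eq_one_right (based (x := b * b') fun p hp => enc_inj ?_)).symm
    show enc ((Cfsg.Lib.Schur.ActPrime.elem im comB * Cfsg.Lib.Schur.ActPrime.elem im comB') p) = _
    rw [← elem_append, elem_apply acts (happ _ _ hB hB')]
    exact (hpts _ hp).1.2
  set z : C := ⁅a, b⁆
  have hz : ∀ p, enc p ∈ pts → z.1 p = zX p := fun p hp => enc_inj (by
    rw [show z = a * b * a' * b' by rw [ha, hb]; rfl]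
    show enc ((Cfsg.Lib.Schur.ActPrime.elem im comA * Cfsg.Lib.Schur.ActPrime.elem im comB *
      Cfsg.Lib.Schur.ActPrime.elem im comA' * Cfsg.Lib.Schur.ActPrime.elem im comB') p) = _
    rw [← elem_append, ← elem_append, ← elem_append,
      elem_apply acts (happ _ _ (happ _ _ (happ _ _ hA hB) hA') hB'), enc_zX]
    exact (hpts _ hp).2)
  have hproj : proj z = 1 := Subtype.ext (based_five (sigma_spec z).1 fun v hv => by
    have hm : enc (v, (⟨0, by norm_num⟩ : F486)) ∈ pts := by
      simp only [enc, pts, List.mem_cons, List.not_mem_nil, or_false] at hv ⊢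
      omega
    show sigma z v = v
    rw [← sigma_apply z v ⟨0, by norm_num⟩, hz _ hm, zX_apply])
  obtain ⟨e, he, hze⟩ := ker_proj hproj
  have he1 : e = 1 := by
    have h0 := congrArg enc (hz ((⟨0, by norm_num⟩ : Fin 275), (⟨0, by norm_num⟩ : F486)) (by simp [enc, pts]))
    rw [hze, zX_pow, enc_zX] at h0
    simp only [enc, rot] at h0
    omega
  rw [he1, pow_one] at hze
  have hz3 : z ^ 3 = 1 := Subtype.ext (Equiv.ext fun p => enc_inj (by
    rw [Subgroup.coe_pow, hze, zX_pow]
    simp only [enc, Equiv.Perm.one_apply, OneMemClass.coe_one]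
    omega))
  have hz1 : z ≠ 1 := fun h => by
    have h0 := congrArg (fun x : C => enc (x.1 ((⟨0, by norm_num⟩ : Fin 275), (⟨0, by norm_num⟩ : F486)))) h
    simp only [hze, enc_zX, OneMemClass.coe_one, Equiv.Perm.one_apply] at h0
    simp only [enc, rot] at h0
    omega
  haveI : Fact (Nat.Prime 3) := ⟨Nat.prime_three⟩
  have hord : orderOf z = 3 := orderOf_eq_prime hz3 hz1
  have hzc : z ∈ commutator C := Subgroup.commutator_mem_commutator (Subgroup.mem_top _) (Subgroup.mem_top _)
  have hker : proj.ker = Subgroup.zpowers z := by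
    refine le_antisymm (fun x hx => ?_) (Subgroup.zpowers_le.mpr hproj)
    obtain ⟨k, -, hk⟩ := ker_proj hx
    exact Subgroup.mem_zpowers_iff.mpr ⟨k, Subtype.ext (by rw [zpow_natCast, Subgroup.coe_pow, hze, hk])⟩
  have hcard : Nat.card proj.ker = 3 := by rw [hker, Nat.card_zpowers, hord]
  have hcen : proj.ker ≤ Subgroup.center C := by
    rw [hker]
    refine Subgroup.zpowers_le.mpr (Subgroup.mem_center_iff.mpr fun g => Subtype.ext ?_)
    rw [Subgroup.coe_mul, Subgroup.coe_mul, hze]
    refine Equiv.ext fun p => ?_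
    obtain ⟨⟨σ, -, hc⟩, -⟩ := good_of_mem g.2
    obtain ⟨v, y⟩ := p
    obtain ⟨c, ⟨-, hcm, -⟩, hy⟩ := hc v
    rw [Equiv.Perm.mul_apply, Equiv.Perm.mul_apply, hy, zX_apply, zX_apply, hy]
    refine Prod.ext rfl ?_
    show (c * Cfsg.Lib.Schur.Mono.zeta 3 162 (show 0 < 3 by norm_num)) y =
      (Cfsg.Lib.Schur.Mono.zeta 3 162 (show 0 < 3 by norm_num) * c) y
    rw [(Cfsg.Lib.Schur.Mono.commute_zeta (show 0 < 3 by norm_num) (presH c hcm)).eq]
  have hkc : proj.ker ≤ commutator C := hker ▸ Subgroup.zpowers_le.mpr hzc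
  refine ⟨⟨proj_surjective, hcen, hkc⟩, hcard, ?_, ?_⟩
  · rw [Subgroup.card_eq_card_quotient_mul_card_subgroup proj.ker, hcard,
      Nat.card_congr (QuotientGroup.quotientKerEquivOfSurjective proj proj_surjective).toEquiv,
      show Nat.card grp275 = 898128000 from grp_eq.2]
  · haveI := simple_grp.1
    have hperf : commutator data.grp = ⊤ := by
      rcases (inferInstance : (commutator data.grp).Normal).eq_bot_or_eq_top with h | h
      · exfalso
        refine simple_grp.2 ⟨⟨fun p q => ?_⟩⟩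
        have := Subgroup.commutator_mem_commutator (Subgroup.mem_top p) (Subgroup.mem_top q)
        rw [← commutator_def, h, Subgroup.mem_bot, commutatorElement_eq_one_iff_mul_comm] at this
        exact this
      · exact h
    have hperf' : commutator grp275 = ⊤ := hperf
    refine eq_top_iff.mpr fun g _ => ?_
    have hg : proj g ∈ (commutator C).map proj := by
      rw [commutator_def, Subgroup.map_commutator, Subgroup.map_top_of_surjective proj proj_surjective,
        ← commutator_def, hperf']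
      exact Subgroup.mem_top _
    obtain ⟨d, hd, hdg⟩ := hg
    have : d⁻¹ * g ∈ proj.ker := by rw [MonoidHom.mem_ker, map_mul, map_inv, hdg, inv_mul_cancel]
    simpa using (commutator _).mul_mem hd (hkc this)

theorem not_dvd (c : Cfsg.Lib.Schur.Prime.Cert) (hp : c.p.Prime) (hc : c.ok = true) (pcw fw : List (List ℕ))
    {n : ℕ} (hn : c.n = n)
    (h : (Cfsg.Lib.Schur.PermPrime.wordsIn 4 pcw && Cfsg.Lib.Schur.PermPrime.wordsIn 4 fw) = true ∧
      ((List.range n).all fun j => Cfsg.Lib.Schur.ActPrime.ruleRow step pts c pcw j) = true ∧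
      Cfsg.Lib.Schur.ActPrime.fusOK step pts c pcw fw = true ∧ ∃ O : List (List ℕ),
      ((List.range n).all fun k => Cfsg.Lib.Schur.ActPrime.orbOK 133650 step n pcw k (O.getD k [])) = true)
    (hcard : (Nat.card C).factorization c.p = c.n)
    {Γ : Type} [Group Γ] [Finite Γ] {σ : Γ →* C} (hσ : Cfsg.IsStemExtension σ) : ¬ c.p ∣ Nat.card σ.ker := by
  subst hn
  obtain ⟨hw, hr, hf, O, hO⟩ := h
  rw [Bool.and_eq_true] at hw
  exact not_dvd_ker C.subtype acts based_C c hp hc pcw fw hw.1 hw.2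
    (fun j hj => List.all_eq_true.mp hr j (List.mem_range.mpr hj)) hf O
    (fun k hk => List.all_eq_true.mp hO k (List.mem_range.mpr hk)) hcard
    (fun w hw => ⟨⟨_, elem_mem hw⟩, rfl⟩) hσ

theorem factorization_eq {n p e : ℕ} (hn : n ≠ 0) (hp : p.Prime) (h1 : p ^ e ∣ n) (h2 : ¬ p ^ (e + 1) ∣ n) :
    n.factorization p = e := by
  refine le_antisymm ?_ ((hp.pow_dvd_iff_le_factorization hn).mp h1)
  by_contra h
  exact h2 ((hp.pow_dvd_iff_le_factorization hn).mpr (by omega))

theorem cover_ker {Γ : Type} [Group Γ] [Finite Γ] {σ : Γ →* C} (hσ : Cfsg.IsStemExtension σ) : σ.ker = ⊥ := by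
  obtain ⟨π, -, -, hcard, -⟩ := cover
  refine Cfsg.Lib.Schur.ker_eq_bot_of_sylow hσ fun p hp => ?_
  haveI := hp
  by_cases h2 : p ^ 2 ∣ 2694384000
  · have h235 : p = 2 ∨ p = 3 ∨ p = 5 := by
      have h1 : p ∣ 2 ^ 7 * 3 ^ 7 * 5 ^ 3 * (7 * 11) := (dvd_pow_self p two_ne_zero).trans (by norm_num; exact h2)
      rcases hp.out.dvd_mul.mp h1 with h1 | h1
      · rcases hp.out.dvd_mul.mp h1 with h1 | h1
        · rcases hp.out.dvd_mul.mp h1 with h1 | h1
          · exact Or.inl ((Nat.prime_dvd_prime_iff_eq hp.out Nat.prime_two).mp (hp.out.dvd_of_dvd_pow h1))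
          · exact Or.inr (Or.inl ((Nat.prime_dvd_prime_iff_eq hp.out Nat.prime_three).mp (hp.out.dvd_of_dvd_pow h1)))
        · exact Or.inr (Or.inr ((Nat.prime_dvd_prime_iff_eq hp.out Nat.prime_five).mp (hp.out.dvd_of_dvd_pow h1)))
      · rcases hp.out.dvd_mul.mp h1 with h1 | h1
        · rw [(Nat.prime_dvd_prime_iff_eq hp.out (by norm_num)).mp h1] at h2; norm_num at h2
        · rw [(Nat.prime_dvd_prime_iff_eq hp.out (by norm_num)).mp h1] at h2; norm_num at h2
    rcases h235 with rfl | rfl | rfl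
    · exact P2.cert.exists_sylow (not_dvd P2.cert (show Nat.Prime 2 by norm_num) P2.cert_ok P2.pcw P2.fw (n := 7) rfl
        ⟨sylow2_words.1, sylow2_words.2.1, sylow2_words.2.2.1, _, sylow2_words.2.2.2⟩ (by
          rw [hcard]; exact factorization_eq (p := 2) (e := 7) (by norm_num) (by norm_num) (by norm_num) (by norm_num)) hσ)
    · exact P3.cert.exists_sylow (not_dvd P3.cert (show Nat.Prime 3 by norm_num) P3.cert_ok P3.pcw P3.fw (n := 7) rfl
        ⟨sylow3_words.1, sylow3_words.2.1, sylow3_words.2.2.1, _, sylow3_words.2.2.2⟩ (by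
          rw [hcard]; exact factorization_eq (p := 3) (e := 7) (by norm_num) (by norm_num) (by norm_num) (by norm_num)) hσ)
    · exact P5.cert.exists_sylow (not_dvd P5.cert (show Nat.Prime 5 by norm_num) P5.cert_ok P5.pcw P5.fw (n := 3) rfl
        ⟨sylow5_words.1, sylow5_words.2.1, sylow5_words.2.2.1, _, sylow5_words.2.2.2⟩ (by
          rw [hcard]; exact factorization_eq (p := 5) (e := 3) (by norm_num) (by norm_num) (by norm_num) (by norm_num)) hσ)
  · exact Cfsg.Lib.Schur.exists_sylow_cyclic hσ (by rwa [hcard])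

theorem multiplier_McL : Cfsg.HasCyclicSchurMultiplier ↥Cfsg.Spor.McL 3 := by
  obtain ⟨π, hπ, hk, -, hperf⟩ := cover
  obtain ⟨e⟩ := exists_equiv
  haveI : Finite ↥Cfsg.Spor.McL := Finite.of_equiv _ e.symm.toEquiv
  let PR : C →* ↥Cfsg.Spor.McL := e.symm.toMonoidHom.comp π
  have hkP : PR.ker = π.ker := by
    ext x
    rw [MonoidHom.mem_ker, MonoidHom.mem_ker]
    exact map_eq_one_iff e.symm e.symm.injective
  haveI : Fact (Nat.Prime 3) := ⟨Nat.prime_three⟩
  exact Cfsg.Lib.Schur.hasCyclicSchurMultiplier_of_cover PR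
    ⟨e.symm.surjective.comp hπ.1, hkP ▸ hπ.2.1, hkP ▸ hπ.2.2⟩ hperf
    (fun Δ _ _ τ hτ => cover_ker hτ) (isCyclic_of_prime_card (by rw [hkP, hk])) (by rw [hkP, hk])

end Cfsg.Lib.McLModel.Mult
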