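import Cfsg.Agent.McLModel.Invol
import Cfsg.Agent.McLModel.Mult.Checks
import Cfsg.Agent.Schur.Basic

/-!
The triple cover of the McLaughlin group: labelled adjacent pairs of the 275 vectors.
-/

set_option autoImplicit false
set_option maxRecDepth 20000
set_option maxHeartbeats 1000000
set_option linter.style.haveILetI false
set_option Elab.async false

namespace Cfsg.Lib.McLModel.Mult

open Cfsg Cfsg.Lib.CosetCert Cfsg.Lib.CosetCert.OutCert Cfsg.Lib.PermCert
open Cfsg.Lib.McLModel.Inv (imgN imgs5 found5)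
open Cfsg.Lib.Schur.PermPrime (gensOK elem elem_apply ev)
open Cfsg.Lib.Schur.Mono (rot zeta zeta_apply zeta_pow pres_cov down down_apply down_gen ker_down commute_zeta)

/-- The coded pairs with labels. -/
abbrev X : Type := Fin 275 × Fin 486

/-- The code of a point. -/
def enc (p : X) : ℕ := 486 * p.1.val + p.2.val

theorem enc_inj : Function.Injective enc := by
  rintro ⟨a, y⟩ ⟨a', y'⟩ h
  have h1 := a.2; have h2 := a'.2; have h3 := y.2; have h4 := y'.2
  simp only [enc] at h
  exact Prod.ext (Fin.ext (by show a.val = a'.val; omega)) (Fin.ext (by show y.val = y'.val; omega))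

theorem enc_surj : ∀ v < 133650, ∃ p : X, enc p = v := fun v hv =>
  ⟨(⟨v / 486, Nat.div_lt_of_lt_mul (by omega)⟩, ⟨v % 486, Nat.mod_lt _ (by norm_num)⟩), Nat.div_add_mod v 486⟩

theorem enc_div (p : X) : enc p / 486 = p.1.val ∧ enc p % 486 = p.2.val := by
  have h := p.2.isLt
  simp only [enc]
  omega

/-- The cover of the stabiliser of the first vector, on the fibres over its neighbours. -/
abbrev CH : Subgroup (Equiv.Perm (Fin (3 * 162))) := Cfsg.Lib.Schur.Mono.cov 3 162 covTabs

theorem covTabs_len : covTabs.length = 4 := valid_ok.2.2.2.2.2.2.2.2.2.2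

theorem stable_ok : ∀ k < covTabs.length, ∀ i < 162,
    Cfsg.Lib.Schur.Mono.stableOK 3 162 row (covTabs.getD k (0, 0)).1 [i] = true := by
  intro k hk i hi
  rw [covTabs_len] at hk
  have h : Cfsg.Lib.Schur.Mono.stableOK 3 162 row (covTabs.getD k (0, 0)).1 (List.range 162) = true := by
    interval_cases k
    · exact stable0
    · exact stable1
    · exact stable2
    · exact stable3
  simp only [Cfsg.Lib.Schur.Mono.stableOK, List.all_cons, List.all_nil, Bool.and_true] at h ⊢
  exact List.all_eq_true.mp h i (List.mem_range.mpr hi)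

theorem presH : ∀ c ∈ CH, Cfsg.Lib.Schur.Mono.Pres 3 162 row c := fun _ hc =>
  pres_cov (by norm_num) compat_ok stable_ok hc

/-- The action of the stabiliser cover on the neighbours. -/
noncomputable abbrev F : CH →* Equiv.Perm (Fin 162) := down (by norm_num) presH

/-- A neighbour as a vector. -/
def nb (j : Fin 162) : Fin 275 :=
  ⟨nbr j.val, by
    have h := List.all_eq_true.mp nbr_ok j.val (List.mem_range.mpr j.2)
    simp only [Bool.and_eq_true, Nat.blt, Nat.ble_eq] at h
    exact h.1⟩

theorem nb_inj : Function.Injective nb := by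
  have key : ∀ i j : Fin 162, i.val < j.val → nbr i.val ≠ nbr j.val := fun i j hij => by
    have h := List.all_eq_true.mp nbr_ok j.val (List.mem_range.mpr j.2)
    simp only [Bool.and_eq_true, List.all_eq_true, List.mem_range, Bool.not_eq_true', beq_eq_false_iff_ne] at h
    exact h.2 i.val hij
  intro i j h
  have e : nbr i.val = nbr j.val := congrArg Fin.val h
  rcases lt_trichotomy i.val j.val with h' | h' | h'
  · exact absurd e (key i j h')
  · exact Fin.ext h'
  · exact absurd e.symm (key j i h')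

/-- An element acts on the neighbours as a permutation of indices. -/
def Rel (t : Equiv.Perm (Fin 275)) (π : Equiv.Perm (Fin 162)) : Prop := ∀ j, t (nb j) = nb (π j)

theorem Rel.one : Rel 1 1 := fun _ => rfl

theorem Rel.mul {t t' : Equiv.Perm (Fin 275)} {π π' : Equiv.Perm (Fin 162)} (h : Rel t π) (h' : Rel t' π') :
    Rel (t * t') (π * π') := fun j => by
  rw [Equiv.Perm.mul_apply, h', h]; rfl

theorem Rel.inv {t : Equiv.Perm (Fin 275)} {π : Equiv.Perm (Fin 162)} (h : Rel t π) : Rel t⁻¹ π⁻¹ := fun j => by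
  have := h (π⁻¹ j)
  rw [show π (π⁻¹ j) = j from Equiv.apply_symm_apply π j] at this
  rw [← this]
  exact Equiv.symm_apply_apply t _

theorem Rel.right_one {π : Equiv.Perm (Fin 162)} (h : Rel 1 π) : π = 1 :=
  Equiv.ext fun j => (nb_inj (h j)).symm

/-- The group on the 275 vectors. -/
def grp275 : Subgroup (Equiv.Perm (Fin 275)) := data.grp

/-- Lifts of an element stabilising the neighbours. -/
def Over (t : Equiv.Perm (Fin 275)) (c : Equiv.Perm (Fin (3 * 162))) : Prop :=
  t ∈ grp275 ∧ ∃ hc : c ∈ CH, Rel t (F ⟨c, hc⟩)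

theorem Over.one : Over 1 1 := ⟨one_mem _, one_mem _, by
  rw [show (⟨1, one_mem _⟩ : CH) = 1 from rfl, map_one]; exact Rel.one⟩

theorem Over.mul {t t' : Equiv.Perm (Fin 275)} {c c' : Equiv.Perm (Fin (3 * 162))} (h : Over t c) (h' : Over t' c') :
    Over (t * t') (c * c') := by
  obtain ⟨ht, hc, hr⟩ := h
  obtain ⟨ht', hc', hr'⟩ := h'
  exact ⟨mul_mem ht ht', mul_mem hc hc', by
    rw [show (⟨c * c', mul_mem hc hc'⟩ : CH) = ⟨c, hc⟩ * ⟨c', hc'⟩ from rfl, map_mul]
    exact hr.mul hr'⟩

theorem Over.inv {t : Equiv.Perm (Fin 275)} {c : Equiv.Perm (Fin (3 * 162))} (h : Over t c) : Over t⁻¹ c⁻¹ := by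
  obtain ⟨ht, hc, hr⟩ := h
  exact ⟨inv_mem ht, inv_mem hc, by
    rw [show (⟨c⁻¹, inv_mem hc⟩ : CH) = (⟨c, hc⟩ : CH)⁻¹ from rfl, map_inv]
    exact hr.inv⟩

/-- The identification of the fibre points. -/
abbrev F486 : Type := Fin (3 * 162)

theorem low_valid {g : ℕ} (hg : g < 4) : valid 275 (data.low.getD g (0, 0)) = true := by
  rw [List.getD_eq_getElem _ _ (by rw [valid_ok.2.1]; exact hg)]
  exact List.all_eq_true.mp valid_ok.1 _ (List.getElem_mem _)

theorem low_mem {g : ℕ} (hg : g < 4) : perm 275 (data.low.getD g (0, 0)) ∈ grp275 := by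
  refine Subgroup.subset_closure ⟨g, hg, ?_⟩
  show perm 275 (data.xTabs.getD g (0, 0)) = _
  rw [Data.xTabs, List.getD_append _ _ _ _ (by rw [valid_ok.2.1]; exact hg)]

theorem elem_low_mem {w : List ℕ} (hw : w.all (fun l => Nat.blt l 4) = true) :
    elem 275 data.low w ∈ grp275 := by
  refine Subgroup.list_prod_mem _ fun g hg => ?_
  obtain ⟨t, ht, rfl⟩ := List.mem_map.mp hg
  obtain ⟨k, hk, rfl⟩ := List.mem_map.mp ht
  exact low_mem (by simpa [Nat.blt, Nat.ble_eq] using List.all_eq_true.mp hw k hk)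

theorem low_apply {w : List ℕ} (hw : w.all (fun l => Nat.blt l 4) = true) (x : Fin 275) :
    (elem 275 data.low w x : ℕ) = ev data.low w x :=
  elem_apply valid_ok.1 (by rw [valid_ok.2.1]; exact hw) x

theorem based_data {z : Equiv.Perm (Fin data.n)} (hz : z ∈ data.grp)
    (h : ∀ x : Fin data.n, x.val ∈ [5, 62, 25, 0, 1] → z x = x) : z = 1 := by
  have hi : imgs5 z = imgs5 1 := List.map_congr_left fun c hc => by
    simp only [imgN]
    split
    · next hlt =>
      have e : (z⁻¹ : Equiv.Perm (Fin data.n)) ⟨c, hlt⟩ = ⟨c, hlt⟩ :=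
        (congrArg (fun q => (z⁻¹ : Equiv.Perm (Fin data.n)) q) (h ⟨c, hlt⟩ hc).symm).trans
          (Equiv.symm_apply_apply z _)
      exact congrArg Fin.val e
    · rfl
  obtain ⟨w, hw, -, e⟩ := found5 hz
  obtain ⟨v, hv, -, e'⟩ := found5 (one_mem data.grp)
  rw [hi, hv] at hw
  rw [← e, ← Option.some.inj hw, e']

/-- Five vectors determine an element of the group. -/
theorem based_five {z : Equiv.Perm (Fin 275)} (hz : z ∈ grp275)
    (h : ∀ x : Fin 275, x.val ∈ [5, 62, 25, 0, 1] → z x = x) : z = 1 := based_data hz h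

theorem eq_of_five {s t : Equiv.Perm (Fin 275)} (hs : s ∈ grp275) (ht : t ∈ grp275)
    (h : ∀ x : Fin 275, x.val ∈ [5, 62, 25, 0, 1] → s x = t x) : s = t := by
  have := based_five (mul_mem (inv_mem ht) hs) fun x hx => by
    rw [Equiv.Perm.mul_apply, h x hx]
    exact Equiv.symm_apply_apply _ _
  exact (inv_mul_eq_one.mp this).symm

theorem over_gen {k : ℕ} (hk : k < 3) :
    Over (perm 275 (sixBig.getD k (0, 0))) (perm (3 * 162) (sixFib.getD k (0, 0))) := by
  have h := List.all_eq_true.mp h_ok k (List.mem_range.mpr hk)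
  simp only [hOK, Bool.and_eq_true, List.all_eq_true, List.mem_range, beq_iff_eq] at h
  obtain ⟨⟨hw, heq⟩, hnb⟩ := h
  have hv : valid 275 (sixBig.getD k (0, 0)) = true := by
    rw [List.getD_eq_getElem _ _ (show k < sixBig.length from hk)]
    exact List.all_eq_true.mp valid_ok.2.2.1 _ (List.getElem_mem _)
  have hvn : valid 162 (sixNb.getD k (0, 0)) = true := by
    rw [List.getD_eq_getElem _ _ (show k < sixNb.length from hk)]
    exact List.all_eq_true.mp valid_ok.2.2.2.2.1 _ (List.getElem_mem _)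
  have hw' : (hWords.getD k []).all (fun l => Nat.blt l 4) = true := List.all_eq_true.mpr hw
  have e : perm 275 (sixBig.getD k (0, 0)) = elem 275 data.low (hWords.getD k []) := Equiv.ext fun x => Fin.ext (by
    rw [perm_apply hv, low_apply hw']
    exact (heq x x.2).symm)
  have ec : covTabs.getD k (0, 0) = sixFib.getD k (0, 0) := List.getD_append _ _ _ _ (show k < sixFib.length from hk)
  have hcl : k < covTabs.length := by rw [covTabs_len]; omega
  refine ⟨e ▸ elem_low_mem hw', Subgroup.subset_closure ⟨k, hcl, by rw [ec]⟩, fun j => Fin.ext ?_⟩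
  have hd := down_gen (q := 3) (N := 162) (row := row) (by norm_num) compat_ok presH hcl
    ⟨perm (3 * 162) (sixFib.getD k (0, 0)), Subgroup.subset_closure ⟨k, hcl, by rw [ec]⟩⟩
    (congrArg (perm (3 * 162)) ec.symm)
  rw [show F _ = _ from hd, perm_apply hv]
  show ap (sixBig.getD k (0, 0)).1 (nbr j) = nbr (perm 162 (covNb.getD k (0, 0)) j)
  rw [show covNb.getD k (0, 0) = sixNb.getD k (0, 0) from List.getD_append _ _ _ _ (show k < sixNb.length from hk),
    perm_apply hvn]
  exact hnb j j.2

theorem over_six {k : ℕ} (hk : k < 6) :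
    Over (perm 275 (bigSix.getD k (0, 0))) (perm (3 * 162) (fibSix.getD k (0, 0))) := by
  rcases Nat.lt_or_ge k 3 with h | h
  · rw [show bigSix.getD k (0, 0) = sixBig.getD k (0, 0) from List.getD_append _ _ _ _ (show k < sixBig.length from h),
      show fibSix.getD k (0, 0) = sixFib.getD k (0, 0) from List.getD_append _ _ _ _ (show k < sixFib.length from h)]
    exact over_gen h
  · obtain ⟨i, rfl⟩ : ∃ i, k = 3 + i := ⟨k - 3, by omega⟩
    have hi : i < 3 := by omega
    rw [show bigSix.getD (3 + i) (0, 0) = pinv (sixBig.getD i (0, 0)) by interval_cases i <;> rfl,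
      show fibSix.getD (3 + i) (0, 0) = pinv (sixFib.getD i (0, 0)) by interval_cases i <;> rfl,
      perm_pinv (by
        rw [List.getD_eq_getElem _ _ (show i < sixBig.length from hi)]
        exact List.all_eq_true.mp valid_ok.2.2.1 _ (List.getElem_mem _)),
      perm_pinv (by
        rw [show sixFib.getD i (0, 0) = fibSix.getD i (0, 0) from
            (List.getD_append _ _ _ _ (show i < sixFib.length from hi)).symm,
          List.getD_eq_getElem _ _ (show i < fibSix.length by show i < 6; omega)]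
        exact List.all_eq_true.mp valid_ok.2.2.2.2.2.2.1 _ (List.getElem_mem _))]
    exact (over_gen hi).inv

theorem over_word : ∀ {w : List ℕ}, (∀ l ∈ w, l < 6) →
    Over (elem 275 bigSix w) (elem (3 * 162) fibSix w)
  | [], _ => Over.one
  | l :: w, h => by
    have := (over_six (h l List.mem_cons_self)).mul (over_word fun x hx => h x (List.mem_cons_of_mem l hx))
    simpa [elem, Cfsg.Lib.Schur.PermPrime.sel, wperm] using this

theorem over_alph {k : ℕ} (hk : k < 65) :
    Over (perm 275 (bigAlph.getD k (0, 0))) (perm (3 * 162) (fibAlph.getD k (0, 0))) := by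
  have half : ∀ {i : ℕ}, i < 32 → Over (perm 275 (alphBig.getD i (0, 0))) (perm (3 * 162) (alphFib.getD i (0, 0))) := by
    intro i hi
    have h := List.all_eq_true.mp alph_ok i (List.mem_range.mpr hi)
    simp only [alphOK, Bool.and_eq_true, List.all_eq_true, List.mem_range, beq_iff_eq] at h
    obtain ⟨⟨hw, hb⟩, hf⟩ := h
    have hw6 : ∀ l ∈ alphWords.getD i [], l < 6 := fun l hl => by simpa [Nat.blt, Nat.ble_eq] using hw l hl
    have hwB : (alphWords.getD i []).all (fun l => Nat.blt l bigSix.length) = true := List.all_eq_true.mpr hw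
    have hwF : (alphWords.getD i []).all (fun l => Nat.blt l fibSix.length) = true := List.all_eq_true.mpr hw
    have hvb : valid 275 (alphBig.getD i (0, 0)) = true := by
      rw [← show bigAlph.getD i (0, 0) = alphBig.getD i (0, 0) by
        unfold bigAlph
        rw [List.append_assoc]
        exact List.getD_append _ _ _ _ (show i < alphBig.length from hi),
        List.getD_eq_getElem _ _ (by rw [valid_ok.2.2.2.2.2.2.2.2.2.1]; omega)]
      exact List.all_eq_true.mp valid_ok.2.2.2.1 _ (List.getElem_mem _)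
    have hvf : valid 486 (alphFib.getD i (0, 0)) = true := by
      rw [← show fibAlph.getD i (0, 0) = alphFib.getD i (0, 0) by
        unfold fibAlph
        rw [List.append_assoc]
        exact List.getD_append _ _ _ _ (show i < alphFib.length from hi),
        List.getD_eq_getElem _ _ (by rw [valid_ok.2.2.2.2.2.2.2.2.1]; omega)]
      exact List.all_eq_true.mp valid_ok.2.2.2.2.2.1 _ (List.getElem_mem _)
    rw [show perm 275 (alphBig.getD i (0, 0)) = elem 275 bigSix (alphWords.getD i []) from Equiv.ext fun x => Fin.ext (by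
        rw [perm_apply hvb, elem_apply valid_ok.2.2.2.2.2.2.2.1 hwB]
        exact (hb x x.2).symm),
      show perm (3 * 162) (alphFib.getD i (0, 0)) = elem (3 * 162) fibSix (alphWords.getD i []) from
        Equiv.ext fun x => Fin.ext (by
          rw [perm_apply hvf, elem_apply valid_ok.2.2.2.2.2.2.1 hwF]
          exact (hf x x.2).symm)]
    exact over_word hw6
  rcases Nat.lt_or_ge k 32 with h | h
  · unfold bigAlph fibAlph
    rw [List.append_assoc, List.append_assoc, List.getD_append _ _ _ _ (show k < alphBig.length from h),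
      List.getD_append _ _ _ _ (show k < alphFib.length from h)]
    exact half h
  rcases Nat.lt_or_ge k 64 with h' | h'
  · obtain ⟨i, rfl⟩ : ∃ i, k = 32 + i := ⟨k - 32, by omega⟩
    have hi : i < 32 := by omega
    have eb : bigAlph.getD (32 + i) (0, 0) = pinv (alphBig.getD i (0, 0)) := by interval_cases i <;> rfl
    have ef : fibAlph.getD (32 + i) (0, 0) = pinv (alphFib.getD i (0, 0)) := by interval_cases i <;> rfl
    have eb' : bigAlph.getD i (0, 0) = alphBig.getD i (0, 0) := by interval_cases i <;> rfl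
    have ef' : fibAlph.getD i (0, 0) = alphFib.getD i (0, 0) := by interval_cases i <;> rfl
    rw [eb, ef, perm_pinv (by
        rw [← eb', List.getD_eq_getElem _ _ (by rw [valid_ok.2.2.2.2.2.2.2.2.2.1]; omega)]
        exact List.all_eq_true.mp valid_ok.2.2.2.1 _ (List.getElem_mem _)),
      perm_pinv (by
        rw [← ef', List.getD_eq_getElem _ _ (by rw [valid_ok.2.2.2.2.2.2.2.2.1]; omega)]
        exact List.all_eq_true.mp valid_ok.2.2.2.2.2.1 _ (List.getElem_mem _))]
    exact (half hi).inv
  · obtain rfl : k = 64 := by omega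
    have hcl : 3 < covTabs.length := by rw [covTabs_len]; omega
    have hvb : valid 275 idBig = true := by
      rw [show idBig = bigAlph.getD 64 (0, 0) from rfl,
        List.getD_eq_getElem _ _ (by rw [valid_ok.2.2.2.2.2.2.2.2.2.1]; omega)]
      exact List.all_eq_true.mp valid_ok.2.2.2.1 _ (List.getElem_mem _)
    have e1 : perm 275 (bigAlph.getD 64 (0, 0)) = 1 := Equiv.ext fun x => Fin.ext (by
      rw [show bigAlph.getD 64 (0, 0) = idBig from rfl, perm_apply hvb]
      exact beq_iff_eq.mp (List.all_eq_true.mp rot_ok.2.1 x (List.mem_range.mpr x.2)))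
    rw [e1, show fibAlph.getD 64 (0, 0) = covTabs.getD 3 (0, 0) from rfl]
    refine ⟨one_mem _, Subgroup.subset_closure ⟨3, hcl, rfl⟩, ?_⟩
    rw [show F _ = _ from down_gen (q := 3) (N := 162) (row := row) (by norm_num) compat_ok presH hcl _ rfl]
    rw [show perm 162 (covNb.getD 3 (0, 0)) = 1 from Equiv.ext fun x => Fin.ext (by
      rw [perm_apply ((Cfsg.Lib.Schur.Mono.compat compat_ok hcl).1)]
      exact beq_iff_eq.mp (List.all_eq_true.mp rot_ok.2.2 x (List.mem_range.mpr x.2)))]
    exact Rel.one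

theorem over_alph_word : ∀ {w : List ℕ}, (∀ l ∈ w, l < 65) →
    Over (elem 275 bigAlph w) (elem (3 * 162) fibAlph w)
  | [], _ => Over.one
  | l :: w, h => by
    have := (over_alph (h l List.mem_cons_self)).mul (over_alph_word fun x hx => h x (List.mem_cons_of_mem l hx))
    simpa [elem, Cfsg.Lib.Schur.PermPrime.sel, wperm] using this

/-- The transversal element of a vector. -/
noncomputable def sP (a : Fin 275) : Equiv.Perm (Fin 275) := elem 275 data.low (trans a.val)

/-- The base permutation of a generator. -/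
noncomputable def gP (g : ℕ) : Equiv.Perm (Fin 275) := perm 275 (data.low.getD g (0, 0))

/-- A generator of the cover. -/
noncomputable def im (g : ℕ) : Equiv.Perm X :=
  (Equiv.prodCongrRight fun a : Fin 275 => elem (3 * 162) fibAlph (comp g a.val)).trans
    (Equiv.prodCongr (gP g) (Equiv.refl _))

theorem im_apply (g : ℕ) (p : X) : im g p = (gP g p.1, elem (3 * 162) fibAlph (comp g p.1.val) p.2) := rfl

theorem comp_spec {g : ℕ} (hg : g < 4) (a : Fin 275) :
    (∀ l ∈ comp g a.val, l < 65) ∧ gIm g a.val = (gP g a).val ∧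
      (trans (gP g a).val).all (fun l => Nat.blt l 4) = true ∧ (trans a.val).all (fun l => Nat.blt l 4) = true ∧
      elem 275 bigAlph (comp g a.val) = (sP (gP g a))⁻¹ * gP g * sP a := by
  have h := List.all_eq_true.mp (List.all_eq_true.mp comp_ok g (List.mem_range.mpr hg)) a.val (List.mem_range.mpr a.2)
  simp only [Bool.and_eq_true] at h
  obtain ⟨⟨hw, hv⟩, hb⟩ := h
  have himg : gIm g a.val = (gP g a).val := (perm_apply (low_valid hg) a).symm
  rw [himg] at hv hb
  have hv' := hv
  simp only [List.all_append, List.all_cons, List.all_reverse, Bool.and_eq_true] at hv'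
  obtain ⟨hs', -, hs⟩ := hv'
  have hw' : ∀ l ∈ comp g a.val, l < 65 := fun l hl => by simpa [Nat.blt, Nat.ble_eq] using List.all_eq_true.mp hw l hl
  refine ⟨hw', himg, hs', hs, ?_⟩
  have e : elem 275 data.low ((trans (gP g a).val).reverse ++ g :: trans a.val) =
      (sP (gP g a))⁻¹ * gP g * sP a := by
    have hrev : ∀ l : List ℕ, l.all (fun k => Nat.blt k 4) = true →
        elem 275 data.low l.reverse = (elem 275 data.low l)⁻¹ := by
      intro l
      induction l with
      | nil => intro _; simp [elem, Cfsg.Lib.Schur.PermPrime.sel, wperm]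
      | cons k l ih =>
        intro hl
        simp only [List.all_cons, Bool.and_eq_true] at hl
        have hk : k < 4 := by simpa [Nat.blt, Nat.ble_eq] using hl.1
        have hsq : perm 275 (data.low.getD k (0, 0)) * perm 275 (data.low.getD k (0, 0)) = 1 :=
          valid_data.tabled.sq k (by rw [valid_ok.2.1]; exact hk) |> fun h => by
            have e : data.im k = perm 275 (data.low.getD k (0, 0)) := by
              show perm 275 (data.xTabs.getD k (0, 0)) = _
              rw [Data.xTabs, List.getD_append _ _ _ _ (by rw [valid_ok.2.1]; exact hk)]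
            rwa [e] at h
        rw [List.reverse_cons, Cfsg.Lib.Schur.PermPrime.elem_append, ih hl.2,
          show elem 275 data.low (k :: l) = perm 275 (data.low.getD k (0, 0)) * elem 275 data.low l by
            simp [elem, Cfsg.Lib.Schur.PermPrime.sel, wperm],
          mul_inv_rev, inv_eq_of_mul_eq_one_right hsq]
        simp [elem, Cfsg.Lib.Schur.PermPrime.sel, wperm]
    rw [Cfsg.Lib.Schur.PermPrime.elem_append, hrev _ hs', mul_assoc]
    congr 1
  rw [← e]
  refine eq_of_five (over_alph_word hw').1 (elem_low_mem hv) fun x hx => Fin.ext ?_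
  rw [elem_apply valid_ok.2.2.2.1 (by rw [valid_ok.2.2.2.2.2.2.2.2.2.1]; exact hw), low_apply hv]
  exact beq_iff_eq.mp (List.all_eq_true.mp hb x.val hx)

/-- The partner of a point. -/
def partner (p : X) : X :=
  (⟨linkPt (enc p) / 486 % 275, Nat.mod_lt _ (by norm_num)⟩, ⟨linkPt (enc p) % 486, Nat.mod_lt _ (by norm_num)⟩)

theorem enc_partner (p : X) : enc (partner p) = linkPt (enc p) := by
  obtain ⟨h1, h2⟩ := enc_div p
  have hj : p.2.val / 3 < 162 := Nat.div_lt_of_lt_mul p.2.2
  have h := List.all_eq_true.mp (List.all_eq_true.mp link_range p.1.val (List.mem_range.mpr p.1.2)) _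
    (List.mem_range.mpr hj)
  simp only [Bool.and_eq_true, Nat.blt, Nat.ble_eq] at h
  have h3 : (link p.1.val (p.2.val / 3) / 131072 + p.2.val % 3) % 3 < 3 := Nat.mod_lt _ (by norm_num)
  have hlt : linkPt (enc p) / 486 < 275 := by
    simp only [linkPt, h1, h2]
    omega
  show 486 * (linkPt (enc p) / 486 % 275) + linkPt (enc p) % 486 = _
  rw [Nat.mod_eq_of_lt hlt]
  exact Nat.div_add_mod _ _

/-- Rotation of the labels. -/
noncomputable def zX : Equiv.Perm X := Equiv.prodCongrRight fun _ => zeta 3 162 (by norm_num)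

theorem zX_apply (p : X) : zX p = (p.1, zeta 3 162 (by norm_num) p.2) := rfl

theorem enc_zX (p : X) : enc (zX p) = 486 * (enc p / 486) + rot 3 (enc p % 486) := by
  obtain ⟨h1, h2⟩ := enc_div p
  rw [h1, h2]
  rfl

/-- The elements lying over the group and respecting the partners. -/
def Good (x : Equiv.Perm X) : Prop :=
  (∃ σ ∈ grp275, ∀ a : Fin 275, ∃ c, Over ((sP (σ a))⁻¹ * σ * sP a) c ∧ ∀ y, x (a, y) = (σ a, c y)) ∧
    ∀ p, x (partner p) = partner (x p)

theorem Good.one : Good 1 := by
  refine ⟨⟨1, one_mem _, fun a => ⟨1, ?_, fun y => rfl⟩⟩, fun p => rfl⟩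
  rw [Equiv.Perm.one_apply, mul_one, inv_mul_cancel]
  exact Over.one

theorem Good.mul {x x' : Equiv.Perm X} (h : Good x) (h' : Good x') : Good (x * x') := by
  obtain ⟨⟨σ, hσ, hc⟩, hp⟩ := h
  obtain ⟨⟨σ', hσ', hc'⟩, hp'⟩ := h'
  refine ⟨⟨σ * σ', mul_mem hσ hσ', fun a => ?_⟩, fun p => by
    rw [Equiv.Perm.mul_apply, Equiv.Perm.mul_apply, hp', hp]⟩
  obtain ⟨c', ho', he'⟩ := hc' a
  obtain ⟨c, ho, he⟩ := hc (σ' a)
  refine ⟨c * c', ?_, fun y => ?_⟩
  · have := ho.mul ho'
    rw [show (sP (σ (σ' a)))⁻¹ * σ * sP (σ' a) * ((sP (σ' a))⁻¹ * σ' * sP a) =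
      (sP ((σ * σ') a))⁻¹ * (σ * σ') * sP a by rw [Equiv.Perm.mul_apply]; group] at this
    exact this
  · rw [Equiv.Perm.mul_apply, he', he, Equiv.Perm.mul_apply, Equiv.Perm.mul_apply]

theorem step_eq : ∀ k < 4, ∀ p : X, enc (im k p) = step k (enc p) := by
  intro k hk p
  obtain ⟨h1, h2⟩ := enc_div p
  obtain ⟨hw, hg, -⟩ := comp_spec hk p.1
  rw [im_apply, step, h1, h2, hg]
  show 486 * (gP k p.1).val + (elem (3 * 162) fibAlph (comp k p.1.val) p.2).val = _
  rw [elem_apply valid_ok.2.2.2.2.2.1 (List.all_eq_true.mpr fun l hl => by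
    rw [valid_ok.2.2.2.2.2.2.2.2.1]
    simpa [Nat.blt, Nat.ble_eq] using hw l hl)]

theorem link_rot {a j c : ℕ} (hj : j < 162) (hb : link a j % 512 < 275) (hk : link a j / 512 % 256 < 162)
    (hc : c < 3) :
    linkPt (486 * a + (3 * j + c)) = 486 * (linkPt (486 * a + 3 * j) / 486) +
      (3 * (linkPt (486 * a + 3 * j) % 486 / 3) + (linkPt (486 * a + 3 * j) % 3 + c) % 3) := by
  have e1 : (486 * a + (3 * j + c)) / 486 = a ∧ (486 * a + (3 * j + c)) % 486 / 3 = j ∧
      (486 * a + (3 * j + c)) % 486 % 3 = c := by omega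
  have e2 : (486 * a + 3 * j) / 486 = a ∧ (486 * a + 3 * j) % 486 / 3 = j ∧ (486 * a + 3 * j) % 486 % 3 = 0 := by omega
  simp only [linkPt, e1, e2]
  omega

theorem zX_pow (p : X) (c : ℕ) :
    enc ((zX ^ c) p) = 486 * p.1.val + (3 * (p.2.val / 3) + (p.2.val % 3 + c) % 3) := by
  have h : ∀ c : ℕ, (zX ^ c) p = (p.1, (zeta 3 162 (by norm_num) ^ c) p.2) := by
    intro c
    induction c with
    | zero => rfl
    | succ c ih => rw [pow_succ', Equiv.Perm.mul_apply, ih, zX_apply, pow_succ', Equiv.Perm.mul_apply]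
  rw [h c]
  show 486 * p.1.val + ((zeta 3 162 _ ^ c) p.2).val = _
  rw [zeta_pow]

theorem zX_partner (p : X) : zX (partner p) = partner (zX p) := by
  refine enc_inj ?_
  obtain ⟨a, y⟩ := p
  obtain ⟨h1, h2⟩ := enc_div (a, y)
  have hr := List.all_eq_true.mp (List.all_eq_true.mp link_range a.val (List.mem_range.mpr a.2)) (y.val / 3)
    (List.mem_range.mpr (Nat.div_lt_of_lt_mul y.2))
  simp only [Bool.and_eq_true, Nat.blt, Nat.ble_eq] at hr
  have hy := y.2
  have hj : y.val / 3 < 162 := Nat.div_lt_of_lt_mul hy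
  have l1 := link_rot (a := a.val) hj hr.1 hr.2 (Nat.mod_lt y.val (show 0 < 3 by norm_num))
  have l2 := link_rot (a := a.val) hj hr.1 hr.2 (Nat.mod_lt (y.val % 3 + 1) (show 0 < 3 by norm_num))
  rw [Nat.div_add_mod] at l1
  rw [enc_zX, enc_partner, enc_partner, enc_zX, show enc (a, y) = 486 * a.val + y.val from rfl,
    show (486 * a.val + y.val) / 486 = a.val by omega, show (486 * a.val + y.val) % 486 = y.val by omega,
    show rot 3 y.val = 3 * (y.val / 3) + (y.val % 3 + 1) % 3 from rfl, l1, l2]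
  simp only [rot]
  omega

theorem good_im {g : ℕ} (hg : g < 4) : Good (im g) := by
  have hcomp : ∀ a : Fin 275, Over ((sP (gP g a))⁻¹ * gP g * sP a) (elem (3 * 162) fibAlph (comp g a.val)) := by
    intro a
    obtain ⟨hw, -, -, -, e⟩ := comp_spec hg a
    rw [← e]
    exact over_alph_word hw
  refine ⟨⟨gP g, low_mem hg, fun a => ⟨_, hcomp a, fun y => im_apply g (a, y)⟩⟩, ?_⟩
  have hz : Commute (im g) zX := Equiv.ext fun p => by
    rw [Equiv.Perm.mul_apply, Equiv.Perm.mul_apply, zX_apply, im_apply, im_apply, zX_apply]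
    refine Prod.ext rfl ?_
    show (elem (3 * 162) fibAlph (comp g p.1.val) * zeta 3 162 (show 0 < 3 by norm_num)) p.2 =
      (zeta 3 162 (show 0 < 3 by norm_num) * elem (3 * 162) fibAlph (comp g p.1.val)) p.2
    rw [(commute_zeta (show 0 < 3 by norm_num) (presH _ (hcomp p.1).2.1)).eq]
  have hzp : ∀ (c : ℕ) (p : X), (zX ^ c) (partner p) = partner ((zX ^ c) p) := by
    intro c
    induction c with
    | zero => intro p; rfl
    | succ c ih => intro p; rw [pow_succ', Equiv.Perm.mul_apply, Equiv.Perm.mul_apply, ih, zX_partner]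
  intro p
  have h0 : ∀ (a : Fin 275) (j : ℕ) (hj : j < 162),
      im g (partner (a, ⟨3 * j, by omega⟩)) = partner (im g (a, ⟨3 * j, by omega⟩)) := fun a j hj => enc_inj (by
    rw [step_eq g hg, enc_partner, enc_partner, step_eq g hg]
    exact link_ok hg a.2 hj)
  have hp : (zX ^ (p.2.val % 3)) (p.1, ⟨3 * (p.2.val / 3), by have := p.2.2; omega⟩) = p := enc_inj (by
    rw [zX_pow]
    simp only [enc]
    omega)
  have h0' := h0 p.1 (p.2.val / 3) (Nat.div_lt_of_lt_mul p.2.2)
  rw [← hp, ← hzp, ← Equiv.Perm.mul_apply, (hz.pow_right _).eq, Equiv.Perm.mul_apply, h0', hzp,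
    ← Equiv.Perm.mul_apply, ← (hz.pow_right _).eq, Equiv.Perm.mul_apply]

/-- The triple cover. -/
noncomputable abbrev C : Subgroup (Equiv.Perm X) := Subgroup.closure {x | ∃ g < 4, x = im g}

theorem good_of_mem {x : Equiv.Perm X} (hx : x ∈ C) : Good x := by
  let S : Submonoid (Equiv.Perm X) :=
    { carrier := {x | Good x}
      one_mem' := Good.one
      mul_mem' := Good.mul }
  let H : Subgroup (Equiv.Perm X) :=
    { S with
      inv_mem' := fun {a} ha => by
        have e : a ^ (orderOf a - 1) = a⁻¹ := by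
          refine eq_inv_of_mul_eq_one_left ?_
          rw [← pow_succ, Nat.sub_add_cancel (orderOf_pos a), pow_orderOf_eq_one]
        rw [← e]; exact S.pow_mem ha _ }
  suffices C ≤ H from this hx
  refine (Subgroup.closure_le _).2 ?_
  rintro _ ⟨g, hg, rfl⟩
  exact good_im hg

/-- The base permutation of an element of the cover. -/
noncomputable def sigma (x : C) : Equiv.Perm (Fin 275) := (good_of_mem x.2).1.choose

theorem sigma_spec (x : C) : sigma x ∈ grp275 ∧
    ∀ a : Fin 275, ∃ c, Over ((sP (sigma x a))⁻¹ * sigma x * sP a) c ∧ ∀ y, x.1 (a, y) = (sigma x a, c y) :=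
  (good_of_mem x.2).1.choose_spec

theorem sigma_apply (x : C) (a : Fin 275) (y : F486) : (x.1 (a, y)).1 = sigma x a := by
  obtain ⟨c, -, hc⟩ := (sigma_spec x).2 a
  rw [hc]

/-- The projection. -/
noncomputable def proj : C →* grp275 :=
  MonoidHom.mk' (fun x => ⟨sigma x, (sigma_spec x).1⟩) fun x y => Subtype.ext (Equiv.ext fun a => by
    show sigma (x * y) a = sigma x (sigma y a)
    rw [← sigma_apply (x * y) a ⟨0, by norm_num⟩, Subgroup.coe_mul, Equiv.Perm.mul_apply,
      show y.1 (a, ⟨0, by norm_num⟩) = (sigma y a, (y.1 (a, ⟨0, by norm_num⟩)).2) from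
        Prod.ext (sigma_apply y a _) rfl,
      sigma_apply])

theorem proj_surjective : Function.Surjective proj := fun t => by
  suffices grp275 ≤ proj.range.map grp275.subtype by
    obtain ⟨u, ⟨x, rfl⟩, e⟩ := this t.2
    exact ⟨x, Subtype.ext e⟩
  refine (Subgroup.closure_le _).2 ?_
  rintro _ ⟨g, hg, rfl⟩
  let x : C := ⟨im g, Subgroup.subset_closure ⟨g, hg, rfl⟩⟩
  refine ⟨proj x, ⟨x, rfl⟩, Equiv.ext fun a => ?_⟩
  show sigma x a = perm 275 (data.xTabs.getD g (0, 0)) a
  rw [← sigma_apply x a ⟨0, by norm_num⟩, Data.xTabs, List.getD_append _ _ _ _ (by rw [valid_ok.2.1]; exact hg)]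
  rfl

theorem tree_const (e : Fin 275 → ℕ) (hedge : ∀ (p : Fin 275) (j : ℕ), j < 162 → ∀ hc : link p.val j % 512 < 275,
    e ⟨link p.val j % 512, hc⟩ = e p) :
    ∀ (T : List (ℕ × ℕ × ℕ)) (seen : List ℕ), bigTreeOK T seen = true →
      (∀ i : Fin 275, i.val ∈ seen → e i = e ⟨0, by norm_num⟩) → ∀ i : Fin 275, e i = e ⟨0, by norm_num⟩ := by
  intro T
  induction T with
  | nil =>
    intro seen h hseen i
    simp only [bigTreeOK, List.all_eq_true, List.mem_range, List.contains_iff_mem] at h
    exact hseen i (h i.val i.2)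
  | cons t T ih =>
    obtain ⟨c, p, j⟩ := t
    intro seen h hseen
    simp only [bigTreeOK, Bool.and_eq_true, Nat.blt, Nat.ble_eq, List.contains_iff_mem, beq_iff_eq] at h
    obtain ⟨⟨⟨⟨hp, hj⟩, hmem⟩, hc⟩, hrest⟩ := h
    refine ih _ hrest fun i hi => ?_
    rcases List.mem_cons.mp hi with e1 | e1
    · have hlt : link p j % 512 < 275 := by rw [hc, ← e1]; exact i.2
      rw [show i = ⟨link p j % 512, hlt⟩ from Fin.ext (e1.trans hc.symm), hedge ⟨p, hp⟩ j hj hlt]
      exact hseen ⟨p, hp⟩ hmem
    · exact hseen i e1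

theorem ker_proj {x : C} (hx : proj x = 1) : ∃ e < 3, x.1 = zX ^ e := by
  have hσ : sigma x = 1 := congrArg Subtype.val hx
  have hloc : ∀ a : Fin 275, ∃ e < 3, ∀ y, x.1 (a, y) = (a, (zeta 3 162 (by norm_num) ^ e) y) := by
    intro a
    obtain ⟨c, ⟨-, hc, hr⟩, hy⟩ := (sigma_spec x).2 a
    rw [hσ] at hr hy
    rw [Equiv.Perm.one_apply, mul_one, inv_mul_cancel] at hr
    obtain ⟨z, hz⟩ := Subgroup.mem_zpowers_iff.mp
      (ker_down (by norm_num) presH nbTree_ok (x := ⟨c, hc⟩) hr.right_one)
    have ho : orderOf (zeta 3 162 (show 0 < 3 by norm_num)) = 3 :=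
      Cfsg.Lib.Schur.Mono.orderOf_zeta (by norm_num) (by norm_num)
    refine ⟨(z % 3).toNat, by omega, fun y => ?_⟩
    rw [hy, show c = zeta 3 162 (show 0 < 3 by norm_num) ^ z from hz.symm, ← zpow_natCast,
      Int.toNat_of_nonneg (Int.emod_nonneg _ (by norm_num)), ← zpow_mod_orderOf, ho]
    rfl
  choose e he hx' using hloc
  have hedge : ∀ (p : Fin 275) (j : ℕ), j < 162 → ∀ hc : link p.val j % 512 < 275,
      e ⟨link p.val j % 512, hc⟩ = e p := by
    intro p j hj hc
    have hr := List.all_eq_true.mp (List.all_eq_true.mp link_range p.val (List.mem_range.mpr p.2)) j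
      (List.mem_range.mpr hj)
    simp only [Bool.and_eq_true, Nat.blt, Nat.ble_eq] at hr
    have h := congrArg enc ((good_of_mem x.2).2 (p, (⟨3 * j, by omega⟩ : F486)))
    rw [enc_partner, hx' p, show partner (p, (⟨3 * j, by omega⟩ : F486)) =
      ((⟨link p.val j % 512, hc⟩ : Fin 275),
        (⟨3 * (link p.val j / 512 % 256) + link p.val j / 131072 % 3, by omega⟩ : F486)) from enc_inj (by
        rw [enc_partner]
        simp only [enc, linkPt, show (486 * p.val + 3 * j) / 486 = p.val by omega,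
          show (486 * p.val + 3 * j) % 486 / 3 = j by omega, show (486 * p.val + 3 * j) % 486 % 3 = 0 by omega,
          add_zero]
        omega), hx'] at h
    simp only [enc, zeta_pow] at h
    have h1 := he p
    have h2 := he ⟨link p.val j % 512, hc⟩
    simp only [linkPt,
      show (486 * p.val + (3 * (3 * j / 3) + (3 * j % 3 + e p) % 3)) / 486 = p.val by omega,
      show (486 * p.val + (3 * (3 * j / 3) + (3 * j % 3 + e p) % 3)) % 486 / 3 = j by omega,
      show (486 * p.val + (3 * (3 * j / 3) + (3 * j % 3 + e p) % 3)) % 486 % 3 = e p by omega] at h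
    omega
  have hconst := tree_const e hedge bigTree [0] bigTree_ok fun i hi => by
    rw [show i = ⟨0, by norm_num⟩ from Fin.ext (List.mem_singleton.mp hi)]
  refine ⟨e ⟨0, by norm_num⟩, he _, Equiv.ext fun p => enc_inj ?_⟩
  rw [zX_pow, show p = (p.1, p.2) from rfl, hx', hconst]
  show 486 * p.1.val + ((zeta 3 162 _ ^ _) p.2).val = _
  rw [zeta_pow]

theorem based {x : C} (h : ∀ p : X, enc p ∈ pts → x.1 p = p) : x = 1 := by
  have hp : proj x = 1 := Subtype.ext (based_five (sigma_spec x).1 fun a ha => by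
    have hm : enc (a, (⟨0, by norm_num⟩ : F486)) ∈ pts := by
      simp only [enc, pts, List.mem_cons, List.not_mem_nil, or_false] at ha ⊢
      omega
    show sigma x a = a
    rw [← sigma_apply x a ⟨0, by norm_num⟩, h _ hm])
  obtain ⟨e, he, hx⟩ := ker_proj hp
  have h0 := congrArg enc (h ((⟨0, by norm_num⟩ : Fin 275), (⟨0, by norm_num⟩ : F486)) (by simp [enc, pts]))
  rw [hx, zX_pow] at h0
  simp only [enc] at h0
  have : e = 0 := by omega
  exact Subtype.ext (by rw [hx, this, pow_zero]; rfl)

end Cfsg.Lib.McLModel.Mult
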